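import Mathlib

set_option autoImplicit false

namespace Cfsg.Agent.Lib.AltPFree

open Polynomial in
/-- In characteristic `p`, `∑_{i<p^k} X^i = (X-1)^(p^k-1)`. -/
theorem geom_sum_char (p k : ℕ) [Fact p.Prime] :
    (∑ i ∈ Finset.range (p ^ k), (X : (ZMod p)[X]) ^ i) = (X - 1) ^ (p ^ k - 1) := by
  have hpos : 0 < p ^ k := pow_pos (Fact.out : p.Prime).pos k
  have hne : (X - 1 : (ZMod p)[X]) ≠ 0 := by simpa using X_sub_C_ne_zero (1 : ZMod p)
  apply mul_right_cancel₀ hne
  rw [geom_sum_mul, ← pow_succ, Nat.sub_add_cancel hpos, sub_pow_char_pow, one_pow]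

open Polynomial in
/-- A `p`-power order linear endomorphism has vanishing `p^k`-geometric sum once
`finrank ≤ p^k-1`. -/
theorem end_geom_zero {p : ℕ} [Fact p.Prime] {V : Type*} [AddCommGroup V] [Module (ZMod p) V]
    [Finite V] (α : Module.End (ZMod p) V) (m : ℕ) (hα : α ^ (p ^ m) = 1) (k : ℕ)
    (hk : Module.finrank (ZMod p) V ≤ p ^ k - 1) :
    ∑ i ∈ Finset.range (p ^ k), α ^ i = 0 := by
  haveI : Module.Finite (ZMod p) V := Module.Finite.of_finite
  have h0 : (α - 1) ^ (p ^ m) = 0 := by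
    have := congrArg (aeval α) (sub_pow_char_pow (x := (X : (ZMod p)[X])) (y := 1) (p := p) (n := m))
    simp only [map_pow, map_sub, aeval_X, map_one, one_pow] at this
    rw [this, hα, sub_self]
  have hnil : IsNilpotent (α - 1) := ⟨_, h0⟩
  have hch := (LinearMap.isNilpotent_iff_charpoly (α - 1)).mp hnil
  have h1 : (α - 1) ^ Module.finrank (ZMod p) V = 0 := by
    have := LinearMap.aeval_self_charpoly (α - 1)
    rw [hch] at this
    simpa using this
  have h2 : ∑ i ∈ Finset.range (p ^ k), α ^ i = (α - 1) ^ (p ^ k - 1) := by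
    have := congrArg (aeval α) (geom_sum_char p k)
    simpa using this
  rw [h2, ← Nat.sub_add_cancel hk, pow_add, h1, mul_zero]

/-- The `p^k`-trace of a `p`-power order endomorphism of an elementary abelian group of order
`p^b` vanishes for `b ≤ p^k-1` (module form). -/
theorem sum_iter_eq_zero_aux {p : ℕ} [Fact p.Prime] {V : Type*} [AddCommGroup V] [Module (ZMod p) V]
    [Finite V] (φ : V →+ V) (m : ℕ) (hφ : ∀ a, φ^[p ^ m] a = a) (k b : ℕ)
    (hcard : Nat.card V = p ^ b) (hk : b ≤ p ^ k - 1) (a : V) :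
    ∑ i ∈ Finset.range (p ^ k), φ^[i] a = 0 := by
  let α : Module.End (ZMod p) V := φ.toZModLinearMap p
  have hαi : ∀ (i : ℕ) (x : V), (α ^ i) x = φ^[i] x := by
    intro i x
    rw [Module.End.pow_apply]
    rfl
  have hαm : α ^ (p ^ m) = 1 := by
    ext x
    rw [hαi, hφ]
    rfl
  have hfr : Module.finrank (ZMod p) V = b := by
    haveI : Module.Finite (ZMod p) V := Module.Finite.of_finite
    haveI := Fintype.ofFinite V
    have h1 : Fintype.card V = Fintype.card (ZMod p) ^ Module.finrank (ZMod p) V :=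
      Module.card_eq_pow_finrank
    rw [ZMod.card, ← Nat.card_eq_fintype_card, hcard] at h1
    exact (Nat.pow_right_injective (Fact.out : p.Prime).two_le h1).symm
  have h0 := end_geom_zero (p := p) α m hαm k (hfr ▸ hk)
  have h3 := congrArg (fun f : Module.End (ZMod p) V => f a) h0
  simpa only [LinearMap.sum_apply, LinearMap.zero_apply, hαi] using h3

/-- Additive form without a given module structure. -/
theorem sum_iter_eq_zero {p : ℕ} [Fact p.Prime] {V : Type*} [AddCommGroup V] [Finite V]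
    (hV : ∀ x : V, p • x = 0) (φ : V →+ V) (m : ℕ) (hφ : ∀ a, φ^[p ^ m] a = a) (k b : ℕ)
    (hcard : Nat.card V = p ^ b) (hk : b ≤ p ^ k - 1) (a : V) :
    ∑ i ∈ Finset.range (p ^ k), φ^[i] a = 0 := by
  letI : Module (ZMod p) V := AddCommGroup.zmodModule hV
  exact sum_iter_eq_zero_aux φ m hφ k b hcard hk a

/-- Multiplicative form of `sum_iter_eq_zero`. -/
theorem prod_iter_eq_one {p : ℕ} [Fact p.Prime] {A : Type*} [CommGroup A] [Finite A]
    (hexp : ∀ a : A, a ^ p = 1) (φ : A →* A) (m : ℕ) (hφ : ∀ a, φ^[p ^ m] a = a) (k b : ℕ)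
    (hcard : Nat.card A = p ^ b) (hk : b ≤ p ^ k - 1) (a : A) :
    ∏ i ∈ Finset.range (p ^ k), φ^[i] a = 1 := by
  haveI : Finite (Additive A) := inferInstanceAs (Finite A)
  have hV : ∀ x : Additive A, p • x = 0 := fun x => by
    show Additive.ofMul ((Additive.toMul x) ^ p) = 0
    rw [hexp]; rfl
  have h := sum_iter_eq_zero (p := p) hV (MonoidHom.toAdditive φ) m (fun x => hφ (Additive.toMul x))
    k b hcard hk (Additive.ofMul a)
  have h4 : Additive.ofMul (∏ i ∈ Finset.range (p ^ k), φ^[i] a) = 0 := by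
    rw [ofMul_prod]; exact h
  exact h4

end Cfsg.Agent.Lib.AltPFree
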