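import Mathlib
import Cfsg.Agent.S0547
import Cfsg.Agent.Lib.AltPFree.Geom

set_option autoImplicit false

namespace Cfsg.Agent.Lib.AltPFree

open MulAction

/-- Twisting a `p`-element by an element of an invariant elementary abelian subgroup of small rank
does not change its `p^k`-th power. -/
theorem twist_pow {G : Type*} [Group G] (E : Subgroup G) [Finite E] (hcomm : ∀ x ∈ E, ∀ y ∈ E, x * y = y * x)
    {p : ℕ} [Fact p.Prime] (hexp : ∀ x ∈ E, x ^ p = 1) (b : ℕ) (hcard : Nat.card E = p ^ b)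
    (t : G) (ht : ∀ x ∈ E, t * x * t⁻¹ ∈ E) (m : ℕ) (htm : t ^ (p ^ m) = 1) (k : ℕ)
    (hk : b ≤ p ^ k - 1) (e : G) (he : e ∈ E) : (e * t) ^ (p ^ k) = t ^ (p ^ k) := by
  letI : CommGroup E := { (inferInstance : Group E) with
    mul_comm := fun a b => Subtype.ext (hcomm a a.2 b b.2) }
  let φ : E →* E :=
    { toFun := fun x => ⟨t * x * t⁻¹, ht x x.2⟩
      map_one' := by ext; simp
      map_mul' := fun x y => by ext; simp [mul_assoc] }
  have hiter : ∀ (i : ℕ) (x : E), ((φ^[i] x : E) : G) = t ^ i * x * (t ^ i)⁻¹ := by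
    intro i
    induction i with
    | zero => intro x; simp
    | succ i ih =>
      intro x
      rw [Function.iterate_succ_apply', pow_succ']
      show t * ((φ^[i] x : E) : G) * t⁻¹ = _
      rw [ih]
      group
  have hφ : ∀ a, φ^[p ^ m] a = a := by
    intro a
    ext
    rw [hiter, htm]
    simp
  have hexp' : ∀ a : E, a ^ p = 1 := fun a => Subtype.ext (by simpa using hexp a a.2)
  have hprod := prod_iter_eq_one hexp' φ m hφ k b hcard hk ⟨e, he⟩
  have hform : ∀ n : ℕ, (e * t) ^ n = ((∏ i ∈ Finset.range n, φ^[i] ⟨e, he⟩ : E) : G) * t ^ n := by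
    intro n
    induction n with
    | zero => simp
    | succ n ih =>
      rw [pow_succ, ih, Finset.prod_range_succ, Subgroup.coe_mul, hiter]
      simp only
      group
  rw [hform, hprod]
  simp

/-- A nontrivial finite group has a minimal normal subgroup. -/
theorem exists_min_normal (H : Type*) [Group H] [Finite H] [Nontrivial H] :
    ∃ M : Subgroup H, M.Normal ∧ M ≠ ⊥ ∧ ∀ K : Subgroup H, K.Normal → K ≤ M → K = ⊥ ∨ K = M := by
  let S : Set (Subgroup H) := {K | K.Normal ∧ K ≠ ⊥}
  have hS : S.Nonempty := ⟨⊤, inferInstance, top_ne_bot⟩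
  obtain ⟨M, hM⟩ := S.toFinite.exists_minimal hS
  refine ⟨M, hM.1.1, hM.1.2, fun K hK hKM => ?_⟩
  by_cases hK1 : K = ⊥
  · exact Or.inl hK1
  · right
    exact le_antisymm hKM (hM.2 ⟨hK, hK1⟩ hKM)

/-- Solvable primitive structure: a regular normal elementary abelian `p`-subgroup. -/
theorem exists_regular_normal {H Y : Type*} [Group H] [Finite H] [Group.IsSolvable H] [MulAction H Y]
    [FaithfulSMul H Y] [Finite Y] [Nonempty Y] [Nontrivial H] (hprim : IsPreprimitive H Y)
    {p : ℕ} [Fact p.Prime] (b : ℕ) (hb : 0 < b) (hY : Nat.card Y = p ^ b) :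
    ∃ M : Subgroup H, M.Normal ∧ IsPretransitive M Y ∧ (∀ x ∈ M, ∀ y ∈ M, x * y = y * x) ∧
      (∀ x ∈ M, x ^ p = 1) ∧ Nat.card M = p ^ b := by
  obtain ⟨M, hMn, hM1, hmin⟩ := exists_min_normal H
  haveI := hMn
  obtain ⟨htr, -, q, d, hq, -, hY', hM'⟩ := Cfsg.Agent.S0547.result hprim M hM1 hmin
  have hcomm := Cfsg.Agent.S0547.comm_of_minimal M hM1 hmin
  obtain ⟨r, hr, hpow⟩ := Cfsg.Agent.S0547.elementary_of_minimal M hM1 hmin hcomm
  have hcardM : Nat.card M = p ^ b := by rw [hM', ← hY', hY]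
  have hpdvd : p ∣ Nat.card M := by
    rw [hcardM]; exact dvd_pow_self p hb.ne'
  obtain ⟨x, hx⟩ := exists_prime_orderOf_dvd_card' (G := M) p hpdvd
  have hxr : x ^ r = 1 := Subtype.ext (by simpa using hpow x x.2)
  have hpr : p ∣ r := by rw [← hx]; exact orderOf_dvd_of_pow_eq_one hxr
  have hpr' : p = r := (Nat.prime_dvd_prime_iff_eq (Fact.out : p.Prime) hr).mp hpr
  subst hpr'
  exact ⟨M, hMn, htr, hcomm, hpow, hcardM⟩

theorem three_pow_bound (c : ℕ) : c + 3 ≤ 3 ^ (c + 1) := by
  induction c with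
  | zero => norm_num
  | succ c ih => rw [pow_succ]; omega

/-- A primitive group of degree `p^b` (`b ≥ 2`, `p` odd) containing a cycle-like element `t`
of period `p^b` at some point is not solvable. -/
theorem not_solvable_of_prim {H Y : Type*} [Group H] [Finite H] [MulAction H Y]
    [FaithfulSMul H Y] [Finite Y] (hprim : IsPreprimitive H Y)
    {p : ℕ} [Fact p.Prime] (hp3 : 3 ≤ p) (b : ℕ) (hb : 2 ≤ b) (hY : Nat.card Y = p ^ b)
    (t : H) (y₀ : Y) (hty : t ^ (p ^ (b - 1)) • y₀ ≠ y₀) (m : ℕ) (htm : t ^ (p ^ m) = 1) :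
    ¬ Group.IsSolvable H := by
  intro hs
  haveI := hs
  haveI : Nonempty Y := ⟨y₀⟩
  haveI : Nontrivial H := ⟨⟨t, 1, by
    rintro rfl
    simp at hty⟩⟩
  obtain ⟨M, hMn, htr, hcomm, hexp, hcard⟩ :=
    exists_regular_normal hprim (p := p) b (by omega) hY
  haveI := hMn
  haveI := htr
  obtain ⟨e, he⟩ := exists_smul_eq (M := M) y₀ (t • y₀)
  have he' : (e : H) • y₀ = t • y₀ := he
  have hineq : b ≤ p ^ (b - 1) - 1 := by
    obtain ⟨c, rfl⟩ : ∃ c, b = c + 2 := ⟨b - 2, by omega⟩
    have h1 : c + 3 ≤ 3 ^ (c + 1) := three_pow_bound c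
    have h2 : 3 ^ (c + 1) ≤ p ^ (c + 1) := Nat.pow_le_pow_left hp3 _
    simp only [Nat.add_succ_sub_one]
    omega
  have htw := twist_pow M hcomm hexp b hcard t (fun x hx => hMn.conj_mem x hx t) m htm (b - 1) hineq
    ((e : H)⁻¹) (inv_mem e.2)
  have hfix : ((e : H)⁻¹ * t) • y₀ = y₀ := by
    rw [mul_smul, ← he', inv_smul_smul]
  apply hty
  rw [← htw]
  have hall : ∀ n : ℕ, ((e : H)⁻¹ * t) ^ n • y₀ = y₀ := by
    intro n
    induction n with
    | zero => simp
    | succ n ih => rw [pow_succ, mul_smul, hfix, ih]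
  exact hall _

/-- In a solvable transitive group of prime degree `p`, any two `p`-elements commute. -/
theorem commute_of_prime_degree {H Y : Type*} [Group H] [Finite H] [Group.IsSolvable H]
    [MulAction H Y] [FaithfulSMul H Y] [Finite Y] [IsPretransitive H Y] {p : ℕ} [Fact p.Prime]
    (hY : Nat.card Y = p) (x y : H) (m₁ m₂ : ℕ) (hx : x ^ (p ^ m₁) = 1) (hy : y ^ (p ^ m₂) = 1) :
    x * y = y * x := by
  classical
  have hpp : p.Prime := Fact.out
  by_cases hnt : Nontrivial H
  swap
  · rw [not_nontrivial_iff_subsingleton] at hnt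
    exact Subsingleton.elim _ _
  haveI := hnt
  have hprim : IsPreprimitive H Y := IsPreprimitive.of_prime_card (hY ▸ hpp)
  haveI : Nonempty Y := by
    have : Nat.card Y ≠ 0 := by rw [hY]; exact hpp.ne_zero
    exact (Nat.card_ne_zero.mp this).1
  obtain ⟨M, hMn, -, hcomm, hexp, hcard⟩ :=
    exists_regular_normal hprim (p := p) 1 (by omega) (by simpa using hY)
  haveI := hMn
  have hcardM : Nat.card M = p := by simpa using hcard
  have hinM : ∀ (z : H) (n : ℕ), z ^ (p ^ n) = 1 → z ∈ M := by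
    intro z n hz
    have hpM : IsPGroup p M := IsPGroup.of_card (n := 1) (by simpa using hcardM)
    have hpz : IsPGroup p (Subgroup.zpowers z) := by
      rw [IsPGroup.iff_card]
      have : orderOf z ∣ p ^ n := orderOf_dvd_of_pow_eq_one hz
      obtain ⟨c, -, hc⟩ := (Nat.dvd_prime_pow hpp).mp this
      exact ⟨c, by rw [Nat.card_zpowers, hc]⟩
    have hpS : IsPGroup p ↥(M ⊔ Subgroup.zpowers z) := IsPGroup.to_sup_of_normal_left hpM hpz
    obtain ⟨c, hc⟩ := IsPGroup.iff_card.mp hpS
    have hdvd : Nat.card ↥(M ⊔ Subgroup.zpowers z) ∣ (p).factorial := by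
      have h1 : Nat.card ↥(M ⊔ Subgroup.zpowers z) ∣ Nat.card (Equiv.Perm Y) := by
        haveI := Fintype.ofFinite Y
        exact Subgroup.card_dvd_of_injective (((toPermHom H Y).comp (Subgroup.subtype _)))
          (fun a b hab => by
            apply Subtype.ext
            apply FaithfulSMul.eq_of_smul_eq_smul (α := Y)
            intro w
            have := congrArg (fun f : Equiv.Perm Y => f w) hab
            simpa using this)
      rwa [Nat.card_perm, hY] at h1
    have hc1 : c ≤ 1 := by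
      by_contra hcon
      have h2 : p ^ 2 ∣ p.factorial := (pow_dvd_pow p (by omega)).trans (hc ▸ hdvd)
      have h3 : p.factorial = p * (p - 1).factorial := by
        conv_lhs => rw [show p = (p - 1) + 1 by have := hpp.pos; omega]
        rw [Nat.factorial_succ]
        have := hpp.pos
        congr 1
        · omega
      rw [h3, pow_two] at h2
      have h4 := Nat.dvd_of_mul_dvd_mul_left hpp.pos h2
      rw [hpp.dvd_factorial] at h4
      have := hpp.pos
      omega
    have hle : M ⊔ Subgroup.zpowers z ≤ M := by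
      have hcardle : Nat.card ↥(M ⊔ Subgroup.zpowers z) ≤ Nat.card M := by
        rw [hc, hcardM]
        calc p ^ c ≤ p ^ 1 := Nat.pow_le_pow_right hpp.pos hc1
          _ = p := pow_one p
      have := Subgroup.eq_of_le_of_card_ge (le_sup_left : M ≤ M ⊔ Subgroup.zpowers z) hcardle
      exact this.symm.le
    exact hle (Subgroup.mem_sup_right (Subgroup.mem_zpowers z))
  exact hcomm x (hinM x m₁ hx) y (hinM y m₂ hy)

end Cfsg.Agent.Lib.AltPFree
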