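import Mathlib

set_option autoImplicit false

namespace Cfsg.Agent.Lib.AltPFree

open Equiv

/-- Solvability passes from a two-generated group to its restriction to an invariant set. -/
theorem solvable_descend {G Y Ω : Type*} [Group G] (ι : G →* Perm Ω) (ℓ : Y → Ω)
    (hℓ : Function.Injective ℓ) (a c : G) (x y : Perm Y)
    (ha : ∀ v, ι a (ℓ v) = ℓ (x v)) (hc : ∀ v, ι c (ℓ v) = ℓ (y v))
    (hs : Group.IsSolvable (Subgroup.closure ({a, c} : Set G))) :
    Group.IsSolvable (Subgroup.closure ({x, y} : Set (Perm Y))) := by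
  let Γ : Subgroup (G × Perm Y) := Subgroup.closure ({(a, x), (c, y)} : Set (G × Perm Y))
  have hΓ : ∀ g ∈ Γ, ∀ v, ι g.1 (ℓ v) = ℓ (g.2 v) := by
    intro g hg
    induction hg using Subgroup.closure_induction with
    | mem g hg =>
      rcases hg with rfl | rfl
      · exact ha
      · exact hc
    | one => intro v; simp
    | mul g h _ _ ihg ihh =>
      intro v
      simp only [Prod.fst_mul, Prod.snd_mul, map_mul, Perm.mul_apply]
      rw [ihh, ihg]
    | inv g _ ih =>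
      intro v
      simp only [Prod.fst_inv, Prod.snd_inv, map_inv]
      rw [Perm.inv_eq_iff_eq, ih]
      simp
  let f₁ : Γ →* G := (MonoidHom.fst G (Perm Y)).comp Γ.subtype
  let f₂ : Γ →* Perm Y := (MonoidHom.snd G (Perm Y)).comp Γ.subtype
  have hf₁ : Function.Injective f₁ := by
    intro g h hgh
    have h1 : (g : G × Perm Y).1 = (h : G × Perm Y).1 := hgh
    apply Subtype.ext
    refine Prod.ext h1 ?_
    ext v
    apply hℓ
    rw [← hΓ _ g.2, ← hΓ _ h.2, h1]
  have hr₁ : f₁.range = Subgroup.closure ({a, c} : Set G) := by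
    rw [MonoidHom.range_comp, Subgroup.range_subtype, MonoidHom.map_closure, Set.image_pair]
    rfl
  have hr₂ : f₂.range = Subgroup.closure ({x, y} : Set (Perm Y)) := by
    rw [MonoidHom.range_comp, Subgroup.range_subtype, MonoidHom.map_closure, Set.image_pair]
    rfl
  haveI : Group.IsSolvable f₁.range := by rw [hr₁]; exact hs
  haveI : Group.IsSolvable Γ :=
    Group.isSolvable_of_isSolvable_injective (f := f₁.rangeRestrict)
      (fun g h hgh => hf₁ (congrArg Subtype.val hgh))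
  have : Group.IsSolvable f₂.range := Group.isSolvable_of_surjective (f := f₂.rangeRestrict) f₂.rangeRestrict_surjective
  rwa [hr₂] at this

/-- The good property of a pair of permutations. -/
def Good (p : ℕ) {Y : Type*} (x y : Perm Y) : Prop :=
  (¬ ∃ k : ℕ, orderOf (x * y) = p ^ k) ∧ ¬ Group.IsSolvable (Subgroup.closure ({x, y} : Set (Perm Y)))

/-- Transport along one conjugating permutation. -/
theorem transport_one {p : ℕ} (hp : p.Prime) {Ω Y : Type*} [DecidableEq Ω] [Fintype Ω] [Fintype Y]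
    [DecidableEq Y]
    (u w : alternatingGroup Ω) (ℓ b : Y → Ω) (hℓ : Function.Injective ℓ)
    (u₀ w₀ : Perm Y) (hu : ∀ y, (u : Perm Ω) (ℓ y) = ℓ (u₀ y))
    (hw : ∀ y, (w : Perm Ω) (b y) = b (w₀ y))
    (σ : Perm Y) (hg : Good p (σ⁻¹ * u₀ * σ) w₀) (G : Perm Ω) (hG : Perm.sign G = 1)
    (hGb : ∀ y, G (b y) = ℓ (σ y)) :
    ∃ g : alternatingGroup Ω, (¬ ∃ k : ℕ, orderOf (u * (g * w * g⁻¹)) = p ^ k) ∧
      ¬ Group.IsSolvable ↥(Subgroup.closure ({u, g * w * g⁻¹} : Set (alternatingGroup Ω))) := by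
  let g : alternatingGroup Ω := ⟨G, Equiv.Perm.mem_alternatingGroup.mpr hG⟩
  let ℓ' : Y → Ω := fun v => ℓ (σ v)
  have hℓ' : Function.Injective ℓ' := fun a c h => σ.injective (hℓ h)
  have h1 : ∀ v, (u : Perm Ω) (ℓ' v) = ℓ' ((σ⁻¹ * u₀ * σ) v) := by
    intro v
    simp only [ℓ', Perm.mul_apply]
    rw [hu]
    simp
  have h2 : ∀ v, ((g * w * g⁻¹ : alternatingGroup Ω) : Perm Ω) (ℓ' v) = ℓ' (w₀ v) := by
    intro v
    show (G * (w : Perm Ω) * G⁻¹) (ℓ (σ v)) = ℓ (σ (w₀ v))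
    rw [← hGb v, ← hGb (w₀ v)]
    simp only [Perm.mul_apply]
    rw [show G⁻¹ (G (b v)) = b v by simp, hw]
  refine ⟨g, ?_, ?_⟩
  · rintro ⟨k, hk⟩
    apply hg.1
    have h3 : ((σ⁻¹ * u₀ * σ) * w₀) ^ (p ^ k) = 1 := by
      have h4 : (u * (g * w * g⁻¹)) ^ (p ^ k) = 1 := by
        rw [← hk]; exact pow_orderOf_eq_one _
      have h5 : ∀ (n : ℕ) (v : Y), (((u * (g * w * g⁻¹)) ^ n : alternatingGroup Ω) : Perm Ω) (ℓ' v)
          = ℓ' ((((σ⁻¹ * u₀ * σ) * w₀) ^ n) v) := by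
        intro n
        induction n with
        | zero => intro v; simp
        | succ n ih =>
          intro v
          rw [pow_succ, pow_succ, Perm.mul_apply, Subgroup.coe_mul, Perm.mul_apply, Subgroup.coe_mul,
            Perm.mul_apply, Perm.mul_apply, h2, h1, ih]
      ext v
      apply hℓ'
      rw [← h5, h4]
      simp
    have h6 : orderOf ((σ⁻¹ * u₀ * σ) * w₀) ∣ p ^ k := orderOf_dvd_of_pow_eq_one h3
    obtain ⟨c, -, hc⟩ := (Nat.dvd_prime_pow hp).mp h6
    exact ⟨c, hc⟩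
  · intro hs
    exact hg.2 (solvable_descend (alternatingGroup Ω).subtype ℓ' hℓ' u (g * w * g⁻¹) _ _ h1 h2 hs)

/-- An extension of a bijection between two images of embeddings. -/
theorem exists_perm_extending {Ω Y : Type*} [DecidableEq Ω] [Fintype Ω] (b ℓ : Y ↪ Ω) :
    ∃ G : Perm Ω, ∀ y, G (b y) = ℓ y := by
  classical
  let e : {x // x ∈ Set.range b} ≃ {x // x ∈ Set.range ℓ} :=
    (Equiv.ofInjective b b.injective).symm.trans (Equiv.ofInjective ℓ ℓ.injective)
  refine ⟨e.extendSubtype, fun y => ?_⟩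
  have hy : b y ∈ Set.range b := ⟨y, rfl⟩
  rw [Equiv.extendSubtype_apply_of_mem e _ hy]
  have : (⟨b y, hy⟩ : {x // x ∈ Set.range b}) = Equiv.ofInjective b b.injective y := rfl
  simp only [e, this, Equiv.trans_apply, Equiv.symm_apply_apply]
  rfl

/-- The main transport theorem: a good pattern of both parities gives an even conjugator. -/
theorem transport {p : ℕ} (hp : p.Prime) {Ω Y : Type*} [DecidableEq Ω] [Fintype Ω] [Fintype Y]
    [DecidableEq Y]
    (u w : alternatingGroup Ω) (ℓ b : Y ↪ Ω)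
    (u₀ w₀ : Perm Y) (hu : ∀ y, (u : Perm Ω) (ℓ y) = ℓ (u₀ y))
    (hw : ∀ y, (w : Perm Ω) (b y) = b (w₀ y))
    (σ₁ σ₂ : Perm Y) (hs : Perm.sign σ₁ ≠ Perm.sign σ₂)
    (hg₁ : Good p (σ₁⁻¹ * u₀ * σ₁) w₀) (hg₂ : Good p (σ₂⁻¹ * u₀ * σ₂) w₀) :
    ∃ g : alternatingGroup Ω, (¬ ∃ k : ℕ, orderOf (u * (g * w * g⁻¹)) = p ^ k) ∧
      ¬ Group.IsSolvable ↥(Subgroup.closure ({u, g * w * g⁻¹} : Set (alternatingGroup Ω))) := by
  obtain ⟨G₁, hG₁⟩ := exists_perm_extending b (σ₁.toEmbedding.trans ℓ)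
  have hG₁' : ∀ y, G₁ (b y) = ℓ (σ₁ y) := hG₁
  by_cases hsg : Perm.sign G₁ = 1
  · exact transport_one hp u w ℓ b ℓ.injective u₀ w₀ hu hw σ₁ hg₁ G₁ hsg hG₁'
  · let τ : Perm Y := σ₁⁻¹ * σ₂
    let T : Perm Ω := τ.viaFintypeEmbedding b
    have hT : ∀ y, T (b y) = b (τ y) := fun y => Equiv.Perm.viaFintypeEmbedding_apply_image τ b y
    have hsT : Perm.sign T = Perm.sign τ := Equiv.Perm.sign_extendDomain _ _
    have hsτ : Perm.sign τ = -1 := by
      have h1 : Perm.sign τ = Perm.sign σ₁ * Perm.sign σ₂ := by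
        simp only [τ, map_mul, map_inv]
        rcases Int.units_eq_one_or (Perm.sign σ₁) with h | h <;> simp [h]
      rcases Int.units_eq_one_or (Perm.sign σ₁) with h | h <;>
        rcases Int.units_eq_one_or (Perm.sign σ₂) with h' | h' <;> simp_all
    have hsg1 : Perm.sign G₁ = -1 := (Int.units_eq_one_or _).resolve_left hsg
    refine transport_one hp u w ℓ b ℓ.injective u₀ w₀ hu hw σ₂ hg₂ (G₁ * T) ?_ ?_
    · rw [map_mul, hsg1, hsT, hsτ]; rfl
    · intro y
      rw [Perm.mul_apply, hT, hG₁']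
      simp [τ]

end Cfsg.Agent.Lib.AltPFree
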