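import Mathlib
import Cfsg.Agent.Lib.AltPFree.Solv
import Cfsg.Agent.Lib.AltPFree.Transport

set_option autoImplicit false

namespace Cfsg.Agent.Lib.AltPFree

open Equiv MulAction
open scoped Pointwise

/-- Translation by 1 on `ZMod N`. -/
def tr (N : ℕ) : Perm (ZMod N) := Equiv.addRight 1

@[simp] theorem tr_apply (N : ℕ) (j : ZMod N) : tr N j = j + 1 := rfl

theorem tr_pow_apply (N k : ℕ) (j : ZMod N) : (tr N ^ k) j = j + k := by
  induction k with
  | zero => simp
  | succ k ih =>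
    rw [pow_succ', Perm.mul_apply, ih, tr_apply]
    push_cast
    ring

theorem tr_pow_card (N : ℕ) : tr N ^ N = 1 := by
  ext j
  rw [tr_pow_apply]
  simp

/-- Breaking the block structure gives primitivity. -/
theorem prim_of_break {p N b : ℕ} [Fact p.Prime] (hN : N = p ^ b) (hb : 1 ≤ b) [NeZero N]
    (H : Subgroup (Perm (ZMod N))) (ht : tr N ∈ H) (x : Perm (ZMod N)) (hx : x ∈ H) (i : ZMod N)
    (hdvd : p ∣ N)
    (hbr : ZMod.castHom hdvd (ZMod p) (x (i + ((p ^ (b - 1) : ℕ) : ZMod N))) ≠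
      ZMod.castHom hdvd (ZMod p) (x i)) :
    IsPreprimitive H (ZMod N) := by
  have hpp : p.Prime := Fact.out
  let T : ℕ → H := fun k => ⟨tr N ^ k, H.pow_mem ht k⟩
  have hT : ∀ (k : ℕ) (j : ZMod N), T k • j = j + k := fun k j => tr_pow_apply N k j
  haveI htr : IsPretransitive H (ZMod N) := by
    constructor
    intro a c
    refine ⟨T (c - a).val, ?_⟩
    rw [hT, ZMod.natCast_zmod_val]
    ring
  apply IsPreprimitive.of_isTrivialBlock_base (0 : ZMod N)
  intro B h0 hB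
  have hBl := hB.smul_eq_of_mem
  have hadd : ∀ j ∈ B, ∀ y ∈ B, y + j ∈ B := by
    intro j hj y hy
    have h1 : T j.val • (0 : ZMod N) ∈ B := by
      rw [hT, ZMod.natCast_zmod_val, zero_add]; exact hj
    have h2 := hBl h0 h1
    have h3 : T j.val • y ∈ T j.val • B := Set.smul_mem_smul_set hy
    rw [h2, hT, ZMod.natCast_zmod_val] at h3
    exact h3
  have hmul : ∀ j ∈ B, ∀ r : ℕ, (r : ZMod N) * j ∈ B := by
    intro j hj r
    induction r with
    | zero => simpa using h0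
    | succ r ih =>
      have := hadd j hj _ ih
      rwa [show (r : ZMod N) * j + j = ((r + 1 : ℕ) : ZMod N) * j by push_cast; ring] at this
  unfold IsTrivialBlock
  by_contra hnt
  push Not at hnt
  obtain ⟨hns, hnu⟩ := hnt
  have hdiv : ∀ j ∈ B, ZMod.castHom hdvd (ZMod p) j = 0 := by
    intro j hj
    by_contra hne
    apply hnu
    have hj' : ((j.val : ℕ) : ZMod N) = j := ZMod.natCast_zmod_val j
    have hnd : ¬ p ∣ j.val := by
      intro hd
      apply hne
      rw [← hj', map_natCast, ZMod.natCast_eq_zero_iff]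
      exact hd
    have hcop : Nat.Coprime j.val N := by
      have hc : Nat.Coprime j.val (p ^ b) :=
        Nat.Coprime.pow_right b ((Nat.Prime.coprime_iff_not_dvd hpp).mpr hnd).symm
      rw [← hN] at hc
      exact hc
    have h1 : (1 : ZMod N) ∈ B := by
      have h2 := hmul j hj (((j.val : ℕ) : ZMod N)⁻¹).val
      have h3 := ZMod.coe_mul_inv_eq_one j.val hcop
      rw [hj'] at h3
      rw [ZMod.natCast_zmod_val, hj', mul_comm, h3] at h2
      exact h2
    ext y
    simp only [Set.mem_univ, iff_true]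
    have := hmul 1 h1 y.val
    rwa [ZMod.natCast_zmod_val, mul_one] at this
  obtain ⟨j₀, hj₀, hj₀0⟩ : ∃ j ∈ B, j ≠ 0 :=
    hns.exists_ne 0
  have hP : ((p ^ (b - 1) : ℕ) : ZMod N) ∈ B := by
    have hj' : ((j₀.val : ℕ) : ZMod N) = j₀ := ZMod.natCast_zmod_val j₀
    have hval0 : j₀.val ≠ 0 := by
      intro h0'
      rw [h0'] at hj'
      exact hj₀0 (by rw [← hj']; simp)
    obtain ⟨e, m, hm, hem⟩ := Nat.exists_eq_pow_mul_and_not_dvd hval0 p hpp.ne_one
    have hlt : j₀.val < N := ZMod.val_lt j₀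
    have he : e < b := by
      have h1 : p ^ e ≤ j₀.val := by
        rw [hem]
        have : 0 < m := Nat.pos_of_ne_zero (fun h => hm (by simp [h]))
        exact Nat.le_mul_of_pos_right _ this
      have h2 : p ^ e < p ^ b := by rw [← hN]; omega
      exact (Nat.pow_lt_pow_iff_right hpp.one_lt).mp h2
    have hcop : Nat.Coprime m N := by
      have hc : Nat.Coprime m (p ^ b) :=
        Nat.Coprime.pow_right b ((Nat.Prime.coprime_iff_not_dvd hpp).mpr hm).symm
      rw [← hN] at hc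
      exact hc
    have h3 := ZMod.coe_mul_inv_eq_one m hcop
    have h2 := hmul j₀ hj₀ (((m : ZMod N)⁻¹).val * p ^ (b - 1 - e))
    have h4 : ((((m : ZMod N)⁻¹).val * p ^ (b - 1 - e) : ℕ) : ZMod N) * j₀ =
        ((p ^ (b - 1) : ℕ) : ZMod N) := by
      rw [← hj', hem]
      push_cast
      rw [ZMod.natCast_zmod_val]
      have h5 : (p : ZMod N) ^ (b - 1) = (p : ZMod N) ^ (b - 1 - e) * (p : ZMod N) ^ e := by
        rw [← pow_add]
        congr 1
        omega
      rw [h5]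
      calc (m : ZMod N)⁻¹ * (p : ZMod N) ^ (b - 1 - e) * ((p : ZMod N) ^ e * (m : ZMod N))
          = ((m : ZMod N) * (m : ZMod N)⁻¹) * ((p : ZMod N) ^ (b - 1 - e) * (p : ZMod N) ^ e) := by
            ring
        _ = _ := by rw [h3, one_mul]
    rwa [h4] at h2
  let c : ℕ := (-(x i)).val
  let h : H := T c * ⟨x, hx⟩ * T i.val
  have hh : ∀ y : ZMod N, h • y = x (y + i) + (-(x i)) := by
    intro y
    show T c • ((⟨x, hx⟩ : H) • (T i.val • y)) = _
    rw [hT, hT, ZMod.natCast_zmod_val, ZMod.natCast_zmod_val]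
    rfl
  have hh0 : h • (0 : ZMod N) ∈ B := by
    rw [hh, zero_add, add_neg_cancel]; exact h0
  have hhB := hBl h0 hh0
  have hPB : h • ((p ^ (b - 1) : ℕ) : ZMod N) ∈ B := by
    have : h • ((p ^ (b - 1) : ℕ) : ZMod N) ∈ h • B := Set.smul_mem_smul_set hP
    rwa [hhB] at this
  rw [hh] at hPB
  have h6 := hdiv _ hPB
  rw [map_add, map_neg, add_neg_eq_zero, add_comm] at h6
  exact hbr h6

/-- Breaking the block structure forces non-solvability in degree `p^b`, `b ≥ 2`. -/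
theorem not_solvable_break {p N b : ℕ} [Fact p.Prime] (hp3 : 3 ≤ p) (hN : N = p ^ b) (hb : 2 ≤ b)
    [NeZero N] (x : Perm (ZMod N)) (i : ZMod N) (hdvd : p ∣ N)
    (hbr : ZMod.castHom hdvd (ZMod p) (x (i + ((p ^ (b - 1) : ℕ) : ZMod N))) ≠
      ZMod.castHom hdvd (ZMod p) (x i)) :
    ¬ Group.IsSolvable (Subgroup.closure ({x, tr N} : Set (Perm (ZMod N)))) := by
  have hpp : p.Prime := Fact.out
  let H : Subgroup (Perm (ZMod N)) := Subgroup.closure ({x, tr N} : Set (Perm (ZMod N)))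
  have ht : tr N ∈ H := Subgroup.subset_closure (by simp)
  have hx : x ∈ H := Subgroup.subset_closure (by simp)
  have hprim : IsPreprimitive H (ZMod N) := prim_of_break hN (by omega) H ht x hx i hdvd hbr
  refine not_solvable_of_prim (H := H) (Y := ZMod N) hprim hp3 b hb ?_ ⟨tr N, ht⟩ 0 ?_ b ?_
  · rw [Nat.card_zmod, hN]
  · show ((tr N) ^ (p ^ (b - 1))) 0 ≠ 0
    rw [tr_pow_apply, zero_add, Ne, ZMod.natCast_eq_zero_iff, hN]
    intro hd
    have := (Nat.pow_dvd_pow_iff_le_right hpp.one_lt).mp hd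
    omega
  · apply Subtype.ext
    show (tr N) ^ (p ^ b) = 1
    rw [← hN]
    exact tr_pow_card N

/-- Degree `p`: non-commuting `p`-elements generate a non-solvable group. -/
theorem not_solvable_prime {p N : ℕ} [Fact p.Prime] (hN : N = p) [NeZero N] (x : Perm (ZMod N))
    (m : ℕ) (hxm : x ^ (p ^ m) = 1) (hcom : x * tr N ≠ tr N * x) :
    ¬ Group.IsSolvable (Subgroup.closure ({x, tr N} : Set (Perm (ZMod N)))) := by
  intro hs
  let H : Subgroup (Perm (ZMod N)) := Subgroup.closure ({x, tr N} : Set (Perm (ZMod N)))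
  have ht : tr N ∈ H := Subgroup.subset_closure (by simp)
  have hx : x ∈ H := Subgroup.subset_closure (by simp)
  haveI : Group.IsSolvable H := hs
  haveI htr : IsPretransitive H (ZMod N) := by
    constructor
    intro a c
    refine ⟨⟨tr N ^ (c - a).val, H.pow_mem ht _⟩, ?_⟩
    show (tr N ^ (c - a).val) a = c
    rw [tr_pow_apply, ZMod.natCast_zmod_val]
    ring
  have := commute_of_prime_degree (H := H) (Y := ZMod N) (p := p) (by rw [Nat.card_zmod, hN])
    ⟨x, hx⟩ ⟨tr N, ht⟩ m 1 (Subtype.ext hxm)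
    (Subtype.ext (by
      show (tr N) ^ (p ^ 1) = 1
      rw [pow_one, ← hN]
      exact tr_pow_card N))
  exact hcom (congrArg Subtype.val this)

/-- A cycle of length prime to `p` obstructs `p`-power order. -/
theorem not_ppow_of_period {α : Type*} (π : Perm α) (i : α) (L : ℕ) (hL : (π ^ L) i = i)
    (hne : π i ≠ i) (p : ℕ) (hcop : L.Coprime p) : ¬ ∃ k : ℕ, orderOf π = p ^ k := by
  rintro ⟨k, hk⟩
  have h1 : Function.IsPeriodicPt π L i := by
    show π^[L] i = i
    rw [Equiv.Perm.iterate_eq_pow]; exact hL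
  have h2 : Function.IsPeriodicPt π (p ^ k) i := by
    show π^[p ^ k] i = i
    rw [Equiv.Perm.iterate_eq_pow, ← hk, pow_orderOf_eq_one]; rfl
  have h3 := h1.minimalPeriod_dvd
  have h4 := h2.minimalPeriod_dvd
  have h5 : Function.minimalPeriod π i ∣ Nat.gcd L (p ^ k) := Nat.dvd_gcd h3 h4
  rw [(Nat.Coprime.pow_right k hcop : Nat.gcd L (p ^ k) = 1)] at h5
  have h6 : Function.minimalPeriod π i = 1 := Nat.eq_one_of_dvd_one h5
  rw [Function.minimalPeriod_eq_one_iff_isFixedPt] at h6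
  exact hne h6

/-- A 2-cycle obstructs odd `p`-power order. -/
theorem not_ppow_of_two_cycle {α : Type*} (π : Perm α) (i j : α) (hij : i ≠ j) (h1 : π i = j)
    (h2 : π j = i) (p : ℕ) (hp : p.Prime) (hp3 : 3 ≤ p) : ¬ ∃ k : ℕ, orderOf π = p ^ k := by
  apply not_ppow_of_period π i 2 (by rw [pow_two, Perm.mul_apply, h1, h2]) (by rw [h1]; exact hij.symm)
  rw [Nat.coprime_primes Nat.prime_two hp]
  omega

/-- Degree `p^b`, `b≥2`: a 2-cycle in `x*t` and a block-breaking pair give a good pair. -/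
theorem good_break {p N b : ℕ} [Fact p.Prime] (hp3 : 3 ≤ p) (hN : N = p ^ b) (hb : 2 ≤ b) [NeZero N]
    (x : Perm (ZMod N)) (i₁ i₂ : ZMod N) (h12 : i₁ ≠ i₂) (h1 : x (i₁ + 1) = i₂) (h2 : x (i₂ + 1) = i₁)
    (i : ZMod N) (hdvd : p ∣ N)
    (hbr : ZMod.castHom hdvd (ZMod p) (x (i + ((p ^ (b - 1) : ℕ) : ZMod N))) ≠
      ZMod.castHom hdvd (ZMod p) (x i)) : Good p x (tr N) :=
  ⟨not_ppow_of_two_cycle _ i₁ i₂ h12 h1 h2 p Fact.out hp3, not_solvable_break hp3 hN hb x i hdvd hbr⟩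

/-- Degree `p`: a 2-cycle in `x*t` gives a good pair. -/
theorem good_prime {p N : ℕ} [Fact p.Prime] (hp3 : 3 ≤ p) (hN : N = p) [NeZero N]
    (x : Perm (ZMod N)) (i₁ i₂ : ZMod N) (h12 : i₁ ≠ i₂) (h1 : x (i₁ + 1) = i₂) (h2 : x (i₂ + 1) = i₁)
    (m : ℕ) (hxm : x ^ (p ^ m) = 1) : Good p x (tr N) := by
  have hpp : p.Prime := Fact.out
  have hn := not_ppow_of_two_cycle (x * tr N) i₁ i₂ h12 h1 h2 p hpp hp3
  refine ⟨hn, not_solvable_prime hN x m hxm ?_⟩
  intro hc
  apply hn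
  have hcomm : Commute x (tr N) := hc
  have h3 : (x * tr N) ^ (p ^ (m + 1)) = 1 := by
    rw [hcomm.mul_pow]
    have h4 : tr N ^ (p ^ (m + 1)) = 1 := by
      rw [pow_succ, pow_mul', ← hN, tr_pow_card, one_pow]
    rw [h4, pow_succ, pow_mul, hxm, one_pow, one_mul]
  obtain ⟨c, -, hc'⟩ := (Nat.dvd_prime_pow hpp).mp (orderOf_dvd_of_pow_eq_one h3)
  exact ⟨c, hc'⟩

end Cfsg.Agent.Lib.AltPFree
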