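import Mathlib
import Cfsg.Agent.Lib.AltPFree.ZModPrim

set_option autoImplicit false

namespace Cfsg.Agent.Lib.AltPFree

open Equiv

/-- From the minimal period, the cyclic labelling of an orbit. -/
def cycFun {Ω : Type*} (π : Perm Ω) (x₀ : Ω) (N : ℕ) : ZMod N → Ω := fun i => (π ^ i.val) x₀

theorem cycFun_injective {Ω : Type*} (π : Perm Ω) (x₀ : Ω) (N : ℕ) [NeZero N]
    (hN : Function.minimalPeriod π x₀ = N) : Function.Injective (cycFun π x₀ N) := by
  intro i j hij
  have h1 : (π : Ω → Ω)^[i.val] x₀ = (π : Ω → Ω)^[j.val] x₀ := by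
    rw [Equiv.Perm.iterate_eq_pow, Equiv.Perm.iterate_eq_pow]; exact hij
  have h2 := Function.iterate_injOn_Iio_minimalPeriod (f := π) (x := x₀)
    (by rw [Set.mem_Iio, hN]; exact ZMod.val_lt i : i.val ∈ _)
    (by rw [Set.mem_Iio, hN]; exact ZMod.val_lt j : j.val ∈ _) h1
  exact ZMod.val_injective N h2

theorem cycFun_succ {Ω : Type*} (π : Perm Ω) (x₀ : Ω) (N : ℕ) [NeZero N] (hN1 : 1 < N)
    (hN : Function.minimalPeriod π x₀ = N) (i : ZMod N) :
    π (cycFun π x₀ N i) = cycFun π x₀ N (i + 1) := by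
  have h1 : ∀ n : ℕ, (π ^ (n % N)) x₀ = (π ^ n) x₀ := by
    intro n
    have := Function.iterate_mod_minimalPeriod_eq (f := π) (x := x₀) (n := n)
    rw [hN, Equiv.Perm.iterate_eq_pow, Equiv.Perm.iterate_eq_pow] at this
    exact this
  have h2 : (i + 1).val = (i.val + (1 : ZMod N).val) % N := ZMod.val_add i 1
  haveI : Fact (1 < N) := ⟨hN1⟩
  rw [ZMod.val_one] at h2
  simp only [cycFun]
  rw [h2, h1, pow_succ', Perm.mul_apply]

/-- Minimal period of a moved point of a `p`-element of maximal level. -/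
theorem minimalPeriod_eq {Ω : Type*} (π : Perm Ω) {p : ℕ} (hp : p.Prime) (a : ℕ)
    (x₀ : Ω) (h1 : (π ^ (p ^ (a + 1))) x₀ = x₀) (hx : (π ^ (p ^ a)) x₀ ≠ x₀) :
    Function.minimalPeriod π x₀ = p ^ (a + 1) := by
  have h2 : Function.IsPeriodicPt π (p ^ (a + 1)) x₀ := by
    show π^[p ^ (a + 1)] x₀ = x₀
    rw [Equiv.Perm.iterate_eq_pow, h1]
  obtain ⟨c, hc, hd⟩ := (Nat.dvd_prime_pow hp).mp h2.minimalPeriod_dvd
  have hca : c = a + 1 := by
    by_contra hne
    have hle : c ≤ a := by omega
    apply hx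
    have h3 : Function.IsPeriodicPt π (Function.minimalPeriod π x₀) x₀ :=
      Function.isPeriodicPt_minimalPeriod π x₀
    have h4 : Function.minimalPeriod π x₀ ∣ p ^ a := by
      rw [hd]; exact pow_dvd_pow p hle
    have h5 : Function.IsPeriodicPt π (p ^ a) x₀ := h3.trans_dvd h4
    have h6 : π^[p ^ a] x₀ = x₀ := h5
    rwa [Equiv.Perm.iterate_eq_pow] at h6
  rw [hd, hca]

/-- From `orderOf`, get a point of full period. -/
theorem exists_full_period {Ω : Type*} (π : Perm Ω) {p : ℕ} (hp : p.Prime) (a : ℕ)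
    (h1 : orderOf π = p ^ (a + 1)) : ∃ x₀, Function.minimalPeriod π x₀ = p ^ (a + 1) := by
  have h2 : π ^ (p ^ a) ≠ 1 := by
    apply pow_ne_one_of_lt_orderOf (pow_pos hp.pos a).ne'
    rw [h1]
    exact Nat.pow_lt_pow_right hp.one_lt (by omega)
  obtain ⟨x₀, hx⟩ : ∃ x₀, (π ^ (p ^ a)) x₀ ≠ x₀ := by
    by_contra hcon
    push Not at hcon
    exact h2 (Equiv.ext hcon)
  refine ⟨x₀, minimalPeriod_eq π hp a x₀ ?_ hx⟩
  rw [← h1, pow_orderOf_eq_one π]
  rfl

/-- Invariant subsets of all sizes compatible with the periods. -/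
theorem exists_inv_subset {Ω : Type*} [DecidableEq Ω] (u : Perm Ω) {p : ℕ} (hp : p.Prime) :
    ∀ (e : ℕ) (m : ℕ) (A : Finset Ω), (∀ x ∈ A, u x ∈ A) → (∀ x ∈ A, (u ^ (p ^ e)) x = x) →
      m * p ^ e ≤ A.card → ∃ T ⊆ A, (∀ x ∈ T, u x ∈ T) ∧ T.card = m * p ^ e := by
  intro e
  induction e with
  | zero =>
    intro m A _ hfix hcard
    simp only [pow_zero, mul_one, pow_one] at hfix hcard ⊢
    obtain ⟨T, hTA, hT⟩ := Finset.exists_subset_card_eq hcard
    exact ⟨T, hTA, fun x hx => by rw [hfix x (hTA hx)]; exact hx, hT⟩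
  | succ e ihe =>
    intro m
    induction m with
    | zero =>
      intro A _ _ _
      exact ⟨∅, Finset.empty_subset _, by simp, by simp⟩
    | succ m ihm =>
      intro A hinv hfix hcard
      by_cases hall : ∀ x ∈ A, (u ^ (p ^ e)) x = x
      · obtain ⟨T, hTA, hTi, hT⟩ := ihe ((m + 1) * p) A hinv hall (by
          rw [mul_assoc, ← pow_succ']; exact hcard)
        exact ⟨T, hTA, hTi, by rw [hT, mul_assoc, ← pow_succ']⟩
      · push Not at hall
        obtain ⟨x, hxA, hx⟩ := hall
        have hper := minimalPeriod_eq u hp e x (hfix x hxA) hx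
        haveI : NeZero (p ^ (e + 1)) := ⟨(pow_pos hp.pos _).ne'⟩
        have h1N : 1 < p ^ (e + 1) := Nat.one_lt_pow (by omega) hp.one_lt
        have hcinj := cycFun_injective u x (p ^ (e + 1)) hper
        have hcsucc := cycFun_succ u x (p ^ (e + 1)) h1N hper
        let O : Finset Ω := Finset.univ.image (cycFun u x (p ^ (e + 1)))
        have hOcard : O.card = p ^ (e + 1) := by
          rw [Finset.card_image_of_injective _ hcinj, Finset.card_univ, ZMod.card]
        have hpow : ∀ n : ℕ, (u ^ n) x ∈ A := by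
          intro n
          induction n with
          | zero => simpa using hxA
          | succ n ih => rw [pow_succ', Perm.mul_apply]; exact hinv _ ih
        have hOA : O ⊆ A := by
          intro y hy
          obtain ⟨i, -, rfl⟩ := Finset.mem_image.mp hy
          exact hpow _
        have hOinv : ∀ y ∈ O, u y ∈ O := by
          intro y hy
          obtain ⟨i, -, rfl⟩ := Finset.mem_image.mp hy
          rw [hcsucc]
          exact Finset.mem_image_of_mem _ (Finset.mem_univ _)
        have hinv' : ∀ y ∈ A \ O, u y ∈ A \ O := by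
          intro y hy
          rw [Finset.mem_sdiff] at hy ⊢
          refine ⟨hinv y hy.1, fun hu => hy.2 ?_⟩
          obtain ⟨j, -, hj⟩ := Finset.mem_image.mp hu
          have h2 : u (cycFun u x (p ^ (e + 1)) (j - 1)) = u y := by
            rw [hcsucc, sub_add_cancel, hj]
          rw [← u.injective h2]
          exact Finset.mem_image_of_mem _ (Finset.mem_univ _)
        have hfix' : ∀ y ∈ A \ O, (u ^ (p ^ (e + 1))) y = y :=
          fun y hy => hfix y (Finset.mem_sdiff.mp hy).1
        have hcard' : m * p ^ (e + 1) ≤ (A \ O).card := by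
          have h3 := Finset.card_sdiff_add_card_eq_card hOA
          rw [hOcard] at h3
          rw [add_mul, one_mul] at hcard
          omega
        obtain ⟨T', hT'A, hT'i, hT'⟩ := ihm (A \ O) hinv' hfix' hcard'
        refine ⟨O ∪ T', ?_, ?_, ?_⟩
        · exact Finset.union_subset hOA (hT'A.trans Finset.sdiff_subset)
        · intro y hy
          rcases Finset.mem_union.mp hy with h | h
          · exact Finset.mem_union_left _ (hOinv y h)
          · exact Finset.mem_union_right _ (hT'i y h)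
        · have hdisj : Disjoint O T' := by
            rw [Finset.disjoint_left]
            intro y hyO hyT
            exact (Finset.mem_sdiff.mp (hT'A hyT)).2 hyO
          rw [Finset.card_union_of_disjoint hdisj, hOcard, hT', add_mul, one_mul, add_comm]

end Cfsg.Agent.Lib.AltPFree
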