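import Mathlib
import Cfsg.Agent.Lib.AltPFree.Cycles

set_option autoImplicit false

namespace Cfsg.Agent.Lib.AltPFree

open Equiv

/-- Casting an injective list of bounded naturals. -/
theorem natCast_comp_injective {m N : ℕ} (f : Fin m → ℕ) (hf : Function.Injective f)
    (hlt : ∀ j, f j < N) : Function.Injective (fun j => ((f j : ℕ) : ZMod N)) := by
  intro i j h
  apply hf
  have h1 := (ZMod.natCast_eq_natCast_iff' _ _ _).mp h
  rwa [Nat.mod_eq_of_lt (hlt i), Nat.mod_eq_of_lt (hlt j)] at h1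

theorem natCast_lt_ne {N a c : ℕ} (ha : a < N) (hc : c < N) (hac : a ≠ c) :
    ((a : ℕ) : ZMod N) ≠ ((c : ℕ) : ZMod N) := by
  intro h
  have h1 := (ZMod.natCast_eq_natCast_iff' _ _ _).mp h
  rw [Nat.mod_eq_of_lt ha, Nat.mod_eq_of_lt hc] at h1
  exact hac h1

/-- The general pipeline for a labelling of `ZMod N`. -/
theorem caseA {Ω : Type*} [Fintype Ω] [DecidableEq Ω] {p N m : ℕ} (hpp : p.Prime) [NeZero N]
    (u w : alternatingGroup Ω) (b : ZMod N ↪ Ω) (hb : ∀ y, (w : Perm Ω) (b y) = b (y + 1))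
    (S : Finset Ω) (hScard : S.card = N) (hSinv : ∀ x ∈ S, (u : Perm Ω) x ∈ S)
    (c : Fin m → Ω) (hc : Function.Injective c) (hcS : ∀ j, c j ∈ S)
    (L : Fin m → ZMod N) (hL : Function.Injective L) (i₀ j₀ : ZMod N) (hij : i₀ ≠ j₀)
    (hi₀ : ∀ j, L j ≠ i₀) (hj₀ : ∀ j, L j ≠ j₀)
    (e₀ : ℕ) (hup : (u : Perm Ω) ^ (p ^ e₀) = 1)
    (hGood : ∀ x : Perm (ZMod N), (∀ j₁ j₂, (u : Perm Ω) (c j₁) = c j₂ → x (L j₁) = L j₂) →
      x ^ (p ^ e₀) = 1 → Good p x (tr N)) :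
    ∃ g : alternatingGroup Ω, (¬ ∃ k : ℕ, orderOf (u * (g * w * g⁻¹)) = p ^ k) ∧
      ¬ Group.IsSolvable ↥(Subgroup.closure ({u, g * w * g⁻¹} : Set (alternatingGroup Ω))) := by
  classical
  have hcardS : Fintype.card (ZMod N) = Fintype.card {x // x ∈ S} := by
    rw [ZMod.card, Fintype.card_coe, hScard]
  let e : ZMod N ≃ {x // x ∈ S} := Fintype.equivOfCardEq hcardS
  let ℓ₀ : ZMod N ↪ Ω := e.toEmbedding.trans (Function.Embedding.subtype _)
  have hℓ₀ : ∀ y, ℓ₀ y = ((e y : {x // x ∈ S}) : Ω) := fun y => rfl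
  let f₀ : ZMod N → ZMod N := fun y => e.symm ⟨(u : Perm Ω) (ℓ₀ y), hSinv _ (e y).2⟩
  have hf₀ : ∀ y, ℓ₀ (f₀ y) = (u : Perm Ω) (ℓ₀ y) := by
    intro y
    simp only [f₀, hℓ₀, Equiv.apply_symm_apply]
  have hf₀i : Function.Injective f₀ := by
    intro a a' h
    apply ℓ₀.injective
    apply (u : Perm Ω).injective
    rw [← hf₀, ← hf₀, h]
  let u₀ : Perm (ZMod N) := Equiv.ofBijective f₀ (Finite.injective_iff_bijective.mp hf₀i)
  have hu₀ : ∀ y, (u : Perm Ω) (ℓ₀ y) = ℓ₀ (u₀ y) := fun y => (hf₀ y).symm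
  have hu₀pow : ∀ (n : ℕ) (y : ZMod N), ((u : Perm Ω) ^ n) (ℓ₀ y) = ℓ₀ ((u₀ ^ n) y) := by
    intro n
    induction n with
    | zero => intro y; simp
    | succ n ih =>
      intro y
      rw [pow_succ, pow_succ, Perm.mul_apply, Perm.mul_apply, hu₀, ih]
  have hu₀1 : u₀ ^ (p ^ e₀) = 1 := by
    ext y
    apply ℓ₀.injective
    rw [← hu₀pow, hup]
    rfl
  let f : Fin m ↪ ZMod N := ⟨fun j => e.symm ⟨c j, hcS j⟩, fun a a' h => by
    have := e.symm.injective h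
    exact hc (congrArg Subtype.val this)⟩
  obtain ⟨σ₁, hσ₁⟩ := exists_perm_extending ⟨L, hL⟩ f
  have hσ₁' : ∀ j, ℓ₀ (σ₁ (L j)) = c j := by
    intro j
    have := hσ₁ j
    simp only [Function.Embedding.coeFn_mk] at this
    rw [this, hℓ₀]
    show ((e (e.symm ⟨c j, hcS j⟩) : {x // x ∈ S}) : Ω) = c j
    rw [Equiv.apply_symm_apply]
  let σ₂ : Perm (ZMod N) := σ₁ * swap i₀ j₀
  have hσ₂' : ∀ j, ℓ₀ (σ₂ (L j)) = c j := by
    intro j
    simp only [σ₂, Perm.mul_apply]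
    rw [swap_apply_of_ne_of_ne (hi₀ j) (hj₀ j)]
    exact hσ₁' j
  have hs : Perm.sign σ₁ ≠ Perm.sign σ₂ := by
    simp only [σ₂, map_mul, Perm.sign_swap hij]
    rcases Int.units_eq_one_or (Perm.sign σ₁) with h | h <;> simp [h]
  have key : ∀ σ : Perm (ZMod N), (∀ j, ℓ₀ (σ (L j)) = c j) → Good p (σ⁻¹ * u₀ * σ) (tr N) := by
    intro σ hσ
    apply hGood
    · intro j₁ j₂ hj
      simp only [Perm.mul_apply]
      rw [Perm.inv_eq_iff_eq]
      apply ℓ₀.injective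
      rw [← hu₀, hσ, hσ, hj]
    · have h1 : (σ⁻¹ * u₀ * σ) = σ⁻¹ * u₀ * (σ⁻¹)⁻¹ := by rw [inv_inv]
      rw [h1, conj_pow, hu₀1]
      simp
  exact transport hpp u w ℓ₀ b u₀ (tr N) hu₀ hb σ₁ σ₂ hs (key σ₁ hσ₁') (key σ₂ hσ₂')

/-- Existence of an invariant set of size `N` containing an orbit. -/
theorem exists_S {Ω : Type*} [Fintype Ω] [DecidableEq Ω] (u : Perm Ω) {p : ℕ} (hp : p.Prime) (a : ℕ)
    (h1 : u ^ (p ^ (a + 1)) = 1) (c₀ : Ω) (per : Function.minimalPeriod u c₀ = p ^ (a + 1))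
    (b : ℕ) (hab : a ≤ b) (hcard : p ^ (b + 1) ≤ Fintype.card Ω) :
    ∃ S : Finset Ω, S.card = p ^ (b + 1) ∧ (∀ x ∈ S, u x ∈ S) ∧
      ∀ i : ZMod (p ^ (a + 1)), cycFun u c₀ (p ^ (a + 1)) i ∈ S := by
  classical
  haveI : NeZero (p ^ (a + 1)) := ⟨(pow_pos hp.pos _).ne'⟩
  have h1N : 1 < p ^ (a + 1) := Nat.one_lt_pow (by omega) hp.one_lt
  have hcinj := cycFun_injective u c₀ (p ^ (a + 1)) per
  have hcsucc := cycFun_succ u c₀ (p ^ (a + 1)) h1N per
  let C : Finset Ω := Finset.univ.image (cycFun u c₀ (p ^ (a + 1)))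
  have hCcard : C.card = p ^ (a + 1) := by
    rw [Finset.card_image_of_injective _ hcinj, Finset.card_univ, ZMod.card]
  have hCinv : ∀ y ∈ C, u y ∈ C := by
    intro y hy
    obtain ⟨i, -, rfl⟩ := Finset.mem_image.mp hy
    rw [hcsucc]
    exact Finset.mem_image_of_mem _ (Finset.mem_univ _)
  have hinv' : ∀ y ∈ Finset.univ \ C, u y ∈ Finset.univ \ C := by
    intro y hy
    rw [Finset.mem_sdiff] at hy ⊢
    refine ⟨Finset.mem_univ _, fun hu => hy.2 ?_⟩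
    obtain ⟨j, -, hj⟩ := Finset.mem_image.mp hu
    have h2 : u (cycFun u c₀ (p ^ (a + 1)) (j - 1)) = u y := by
      rw [hcsucc, sub_add_cancel, hj]
    rw [← u.injective h2]
    exact Finset.mem_image_of_mem _ (Finset.mem_univ _)
  have hfix' : ∀ y ∈ Finset.univ \ C, (u ^ (p ^ (a + 1))) y = y := by
    intro y _
    rw [h1]; rfl
  have hpow : p ^ (b + 1) = p ^ (b - a) * p ^ (a + 1) := by
    rw [← pow_add]; congr 1; omega
  have hm : (p ^ (b - a) - 1) * p ^ (a + 1) ≤ (Finset.univ \ C).card := by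
    have h3 := Finset.card_sdiff_add_card_eq_card (Finset.subset_univ C)
    rw [hCcard, Finset.card_univ] at h3
    have h4 : 0 < p ^ (b - a) := pow_pos hp.pos _
    have h5 : (p ^ (b - a) - 1) * p ^ (a + 1) + p ^ (a + 1) = p ^ (b + 1) := by
      rw [hpow]
      conv_rhs => rw [show p ^ (b - a) = (p ^ (b - a) - 1) + 1 by omega, add_mul, one_mul]
    omega
  obtain ⟨T, hTA, hTi, hT⟩ := exists_inv_subset u hp (a + 1) (p ^ (b - a) - 1) _ hinv' hfix' hm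
  refine ⟨C ∪ T, ?_, ?_, ?_⟩
  · have hdisj : Disjoint C T := by
      rw [Finset.disjoint_left]
      intro y hyC hyT
      exact (Finset.mem_sdiff.mp (hTA hyT)).2 hyC
    rw [Finset.card_union_of_disjoint hdisj, hCcard, hT, hpow]
    have h4 : 0 < p ^ (b - a) := pow_pos hp.pos _
    conv_rhs => rw [show p ^ (b - a) = (p ^ (b - a) - 1) + 1 by omega, add_mul, one_mul]
    ring
  · intro y hy
    rcases Finset.mem_union.mp hy with h | h
    · exact Finset.mem_union_left _ (hCinv y h)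
    · exact Finset.mem_union_right _ (hTi y h)
  · intro i
    exact Finset.mem_union_left _ (Finset.mem_image_of_mem _ (Finset.mem_univ _))

end Cfsg.Agent.Lib.AltPFree
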