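import Mathlib
import Cfsg.Agent.Lib.AltPFree.Pipeline

set_option autoImplicit false

namespace Cfsg.Agent.Lib.AltPFree

open Equiv
open scoped commutatorElement

/-- A two-generated group whose generators are commutators of its elements is not solvable. -/
theorem not_solvable_of_commutators {G : Type*} [Group G] (x y a₁ a₂ a₃ a₄ : G)
    (h1 : a₁ ∈ Subgroup.closure ({x, y} : Set G)) (h2 : a₂ ∈ Subgroup.closure ({x, y} : Set G))
    (h3 : a₃ ∈ Subgroup.closure ({x, y} : Set G)) (h4 : a₄ ∈ Subgroup.closure ({x, y} : Set G))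
    (hx : ⁅a₁, a₂⁆ = x) (hy : ⁅a₃, a₄⁆ = y) (hne : x ≠ 1) :
    ¬ Group.IsSolvable (Subgroup.closure ({x, y} : Set G)) := by
  intro hs
  set K := Subgroup.closure ({x, y} : Set G) with hK
  have hxK : x ∈ K := Subgroup.subset_closure (by simp)
  have hle : K ≤ ⁅K, K⁆ := by
    rw [hK, Subgroup.closure_le]
    rintro z (rfl | rfl)
    · rw [← hK, ← hx]; exact Subgroup.commutator_mem_commutator h1 h2
    · rw [← hK, ← hy]; exact Subgroup.commutator_mem_commutator h3 h4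
  have hc : commutator K = ⊤ := by
    rw [eq_top_iff]
    intro z _
    have hz : (z : G) ∈ ⁅K, K⁆ := hle z.2
    rw [← Subgroup.map_subtype_commutator] at hz
    obtain ⟨w, hw, hwz⟩ := hz
    have : w = z := Subtype.ext hwz
    rwa [← this]
  have hd : ∀ n, derivedSeries K n = ⊤ := by
    intro n
    induction n with
    | zero => rfl
    | succ n ih =>
      rw [derivedSeries_succ, ih]
      exact hc
  obtain ⟨n, hn⟩ := (Group.isSolvable_def K).mp hs
  rw [hd] at hn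
  have hx1 : (⟨x, hxK⟩ : K) ∈ (⊥ : Subgroup K) := by rw [← hn]; trivial
  rw [Subgroup.mem_bot] at hx1
  exact hne (congrArg Subtype.val hx1)

/-- Good from explicit words and a short cycle. -/
theorem good_words {Y : Type*} (p : ℕ) (x y a₁ a₂ a₃ a₄ : Perm Y)
    (h1 : a₁ ∈ Subgroup.closure ({x, y} : Set (Perm Y)))
    (h2 : a₂ ∈ Subgroup.closure ({x, y} : Set (Perm Y)))
    (h3 : a₃ ∈ Subgroup.closure ({x, y} : Set (Perm Y)))
    (h4 : a₄ ∈ Subgroup.closure ({x, y} : Set (Perm Y)))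
    (hx : ⁅a₁, a₂⁆ = x) (hy : ⁅a₃, a₄⁆ = y) (hne : x ≠ 1) (i : Y) (L : ℕ)
    (hL : ((x * y) ^ L) i = i) (hmv : (x * y) i ≠ i) (hc : L.Coprime p) : Good p x y :=
  ⟨not_ppow_of_period _ i L hL hmv p hc,
    not_solvable_of_commutators x y a₁ a₂ a₃ a₄ h1 h2 h3 h4 hx hy hne⟩

section finite

set_option maxRecDepth 100000

/-- The 3-cycle `(0 1 2)` on `Fin 5`. -/
def t5 : Perm (Fin 5) := swap 0 1 * swap 1 2
/-- The 3-cycle `(0 1 2)` on `Fin 6`. -/
def t6 : Perm (Fin 6) := swap 0 1 * swap 1 2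
/-- The product `(0 1 2)(3 4 5)` on `Fin 6`. -/
def d6 : Perm (Fin 6) := swap 0 1 * swap 1 2 * (swap 3 4 * swap 4 5)

theorem mem_x {Y : Type*} (x y : Perm Y) : x ∈ Subgroup.closure ({x, y} : Set (Perm Y)) :=
  Subgroup.subset_closure (by simp)
theorem mem_y {Y : Type*} (x y : Perm Y) : y ∈ Subgroup.closure ({x, y} : Set (Perm Y)) :=
  Subgroup.subset_closure (by simp)

/-- Pattern P1. -/
theorem good_P1 (σ : Perm (Fin 5)) (hσ : σ⁻¹ * t5 * σ = swap 0 3 * swap 3 4) :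
    Good 3 (σ⁻¹ * t5 * σ) t5 := by
  rw [hσ]
  set x : Perm (Fin 5) := swap 0 3 * swap 3 4 with hx
  set y := t5 with hy
  have hX := mem_x x y
  have hY := mem_y x y
  refine good_words 3 x y (x * x) (y * x * x * y * y * x * y) (y * y) (x * y * x * x * y * y * x)
    (mul_mem hX hX) (mul_mem (mul_mem (mul_mem (mul_mem (mul_mem (mul_mem hY hX) hX) hY) hY) hX) hY)
    (mul_mem hY hY) (mul_mem (mul_mem (mul_mem (mul_mem (mul_mem (mul_mem hX hY) hX) hX) hY) hY) hX)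
    (by decide) (by decide) (by decide) 0 5 (by decide) (by decide) (by norm_num)

/-- Pattern P2. -/
theorem good_P2 (x : Perm (Fin 6)) (hx' : x = swap 0 1 * swap 1 3 * (swap 2 5 * swap 5 4)) : Good 3 x d6 := by
  subst hx'
  set x : Perm (Fin 6) := swap 0 1 * swap 1 3 * (swap 2 5 * swap 5 4) with hx
  set y := d6 with hy
  have hX := mem_x x y
  have hY := mem_y x y
  refine good_words 3 x y (x * x) (y * x * x * y * y * x * y) (y * y) (x * y * x * x * y * y * x)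
    (mul_mem hX hX) (mul_mem (mul_mem (mul_mem (mul_mem (mul_mem (mul_mem hY hX) hX) hY) hY) hX) hY)
    (mul_mem hY hY) (mul_mem (mul_mem (mul_mem (mul_mem (mul_mem (mul_mem hX hY) hX) hX) hY) hY) hX)
    (by decide) (by decide) (by decide) 0 5 (by decide) (by decide) (by norm_num)

/-- Pattern P3. -/
theorem good_P3 (x : Perm (Fin 6)) (hx' : x = swap 0 3 * swap 3 1 * (swap 2 4 * swap 4 5)) : Good 3 x t6 := by
  subst hx'
  set x : Perm (Fin 6) := swap 0 3 * swap 3 1 * (swap 2 4 * swap 4 5) with hx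
  set y := t6 with hy
  have hX := mem_x x y
  have hY := mem_y x y
  refine good_words 3 x y (x * x) (y * x * y * x * x * y * x * y * y) (y * y)
    (x * x * y * x * y * y * x * y * x)
    (mul_mem hX hX)
    (mul_mem (mul_mem (mul_mem (mul_mem (mul_mem (mul_mem (mul_mem (mul_mem hY hX) hY) hX) hX) hY) hX) hY) hY)
    (mul_mem hY hY)
    (mul_mem (mul_mem (mul_mem (mul_mem (mul_mem (mul_mem (mul_mem (mul_mem hX hX) hY) hX) hY) hY) hX) hY) hX)
    (by decide) (by decide) (by decide) 1 5 (by decide) (by decide) (by norm_num)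

/-- Pattern P4. -/
theorem good_P4 (x : Perm (Fin 6)) (hx' : x = swap 0 3 * swap 3 1) : Good 3 x d6 := by
  subst hx'
  set x : Perm (Fin 6) := swap 0 3 * swap 3 1 with hx
  set y := d6 with hy
  have hX := mem_x x y
  have hY := mem_y x y
  refine good_words 3 x y (x * x) (y * x * y * x * x * y * x * y * y) (y * y)
    (x * x * y * x * y * y * x * y * x)
    (mul_mem hX hX)
    (mul_mem (mul_mem (mul_mem (mul_mem (mul_mem (mul_mem (mul_mem (mul_mem hY hX) hY) hX) hX) hY) hX) hY) hY)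
    (mul_mem hY hY)
    (mul_mem (mul_mem (mul_mem (mul_mem (mul_mem (mul_mem (mul_mem (mul_mem hX hX) hY) hX) hY) hY) hX) hY) hX)
    (by decide) (by decide) (by decide) 1 5 (by decide) (by decide) (by norm_num)

/-- The transport with a parity switch `τ` centralising the pattern. -/
theorem transport_tau {p : ℕ} (hp : p.Prime) {Ω Y : Type*} [DecidableEq Ω] [Fintype Ω] [Fintype Y]
    [DecidableEq Y] (u w : alternatingGroup Ω) (ℓ b : Y ↪ Ω)
    (u₀ w₀ : Perm Y) (hu : ∀ y, (u : Perm Ω) (ℓ y) = ℓ (u₀ y))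
    (hw : ∀ y, (w : Perm Ω) (b y) = b (w₀ y))
    (σ τ x : Perm Y) (hτ : Perm.sign τ = -1) (h1 : σ⁻¹ * u₀ * σ = x)
    (h2 : (σ * τ)⁻¹ * u₀ * (σ * τ) = x) (hG : Good p x w₀) :
    ∃ g : alternatingGroup Ω, (¬ ∃ k : ℕ, orderOf (u * (g * w * g⁻¹)) = p ^ k) ∧
      ¬ Group.IsSolvable ↥(Subgroup.closure ({u, g * w * g⁻¹} : Set (alternatingGroup Ω))) := by
  refine transport hp u w ℓ b u₀ w₀ hu hw σ (σ * τ) ?_ (h1 ▸ hG) (h2 ▸ hG)
  rw [map_mul, hτ]
  rcases Int.units_eq_one_or (Perm.sign σ) with h | h <;> simp [h]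

/-- Pattern applications: the four combinations for elements of order 3. -/
theorem app_P1 {Ω : Type*} [DecidableEq Ω] [Fintype Ω] (u w : alternatingGroup Ω) (ℓ b : Fin 5 ↪ Ω)
    (hu : ∀ y, (u : Perm Ω) (ℓ y) = ℓ (t5 y)) (hw : ∀ y, (w : Perm Ω) (b y) = b (t5 y)) :
    ∃ g : alternatingGroup Ω, (¬ ∃ k : ℕ, orderOf (u * (g * w * g⁻¹)) = 3 ^ k) ∧
      ¬ Group.IsSolvable ↥(Subgroup.closure ({u, g * w * g⁻¹} : Set (alternatingGroup Ω))) := by
  have h1 : (swap 1 3 * swap 2 4 : Perm (Fin 5))⁻¹ * t5 * (swap 1 3 * swap 2 4) = swap 0 3 * swap 3 4 := by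
    decide
  refine transport_tau Nat.prime_three u w ℓ b t5 t5 hu hw (swap 1 3 * swap 2 4) (swap 1 2) _ (Perm.sign_swap (by decide)) h1 (by decide) ?_
  have := good_P1 (swap 1 3 * swap 2 4) h1
  rwa [h1] at this

theorem app_P2 {Ω : Type*} [DecidableEq Ω] [Fintype Ω] (u w : alternatingGroup Ω) (ℓ b : Fin 6 ↪ Ω)
    (hu : ∀ y, (u : Perm Ω) (ℓ y) = ℓ (d6 y)) (hw : ∀ y, (w : Perm Ω) (b y) = b (d6 y)) :
    ∃ g : alternatingGroup Ω, (¬ ∃ k : ℕ, orderOf (u * (g * w * g⁻¹)) = 3 ^ k) ∧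
      ¬ Group.IsSolvable ↥(Subgroup.closure ({u, g * w * g⁻¹} : Set (alternatingGroup Ω))) :=
  transport_tau Nat.prime_three u w ℓ b d6 d6 hu hw (swap 2 3 * swap 4 5) (swap 0 2 * swap 1 5 * swap 3 4)
    _ (by decide) (by decide) (by decide) (good_P2 _ rfl)

theorem app_P3 {Ω : Type*} [DecidableEq Ω] [Fintype Ω] (u w : alternatingGroup Ω) (ℓ b : Fin 6 ↪ Ω)
    (hu : ∀ y, (u : Perm Ω) (ℓ y) = ℓ (d6 y)) (hw : ∀ y, (w : Perm Ω) (b y) = b (t6 y)) :
    ∃ g : alternatingGroup Ω, (¬ ∃ k : ℕ, orderOf (u * (g * w * g⁻¹)) = 3 ^ k) ∧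
      ¬ Group.IsSolvable ↥(Subgroup.closure ({u, g * w * g⁻¹} : Set (alternatingGroup Ω))) :=
  transport_tau Nat.prime_three u w ℓ b d6 t6 hu hw (swap 1 2 * swap 2 3) (swap 0 2 * swap 3 4 * swap 1 5)
    _ (by decide) (by decide) (by decide) (good_P3 _ rfl)

theorem app_P4 {Ω : Type*} [DecidableEq Ω] [Fintype Ω] (u w : alternatingGroup Ω) (ℓ b : Fin 6 ↪ Ω)
    (hu : ∀ y, (u : Perm Ω) (ℓ y) = ℓ (t6 y)) (hw : ∀ y, (w : Perm Ω) (b y) = b (d6 y)) :
    ∃ g : alternatingGroup Ω, (¬ ∃ k : ℕ, orderOf (u * (g * w * g⁻¹)) = 3 ^ k) ∧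
      ¬ Group.IsSolvable ↥(Subgroup.closure ({u, g * w * g⁻¹} : Set (alternatingGroup Ω))) :=
  transport_tau Nat.prime_three u w ℓ b t6 d6 hu hw (swap 1 2 * swap 2 3) (swap 2 4)
    _ (by decide) (by decide) (by decide) (good_P4 _ rfl)

end finite

end Cfsg.Agent.Lib.AltPFree
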