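import Mathlib
import Cfsg.Agent.Lib.AltPFree.Patterns

set_option autoImplicit false

namespace Cfsg.Agent.Lib.AltPFree

open Equiv

section five

set_option maxRecDepth 100000

instance fact_prime_five' : Fact (Nat.Prime 5) := ⟨by norm_num⟩

theorem good5a : Good 5 ((swap 3 4 : Perm (ZMod 5))⁻¹ * tr 5 * swap 3 4) (tr 5) := by
  have h0 : ((swap 3 4 : Perm (ZMod 5))⁻¹ * tr 5 * swap 3 4) ^ (5 ^ 1) = 1 := by decide
  have hn := not_ppow_of_two_cycle (((swap 3 4 : Perm (ZMod 5))⁻¹ * tr 5 * swap 3 4) * tr 5) 0 2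
    (by decide) (by decide) (by decide) 5 (by norm_num) (by norm_num)
  refine ⟨hn, not_solvable_prime (p := 5) rfl _ 1 h0 (by decide)⟩

theorem good5b : Good 5 ((swap 1 2 * swap 3 4 : Perm (ZMod 5))⁻¹ * tr 5 * (swap 1 2 * swap 3 4)) (tr 5) := by
  have h0 : ((swap 1 2 * swap 3 4 : Perm (ZMod 5))⁻¹ * tr 5 * (swap 1 2 * swap 3 4)) ^ (5 ^ 1) = 1 := by
    decide
  have hn := not_ppow_of_period (((swap 1 2 * swap 3 4 : Perm (ZMod 5))⁻¹ * tr 5 * (swap 1 2 * swap 3 4)) * tr 5) 0 3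
    (by decide) (by decide) 5 (by norm_num)
  refine ⟨hn, not_solvable_prime (p := 5) rfl _ 1 h0 (by decide)⟩

theorem app_P5 {Ω : Type*} [DecidableEq Ω] [Fintype Ω] (u w : alternatingGroup Ω) (ℓ b : ZMod 5 ↪ Ω)
    (hu : ∀ y, (u : Perm Ω) (ℓ y) = ℓ (tr 5 y)) (hw : ∀ y, (w : Perm Ω) (b y) = b (tr 5 y)) :
    ∃ g : alternatingGroup Ω, (¬ ∃ k : ℕ, orderOf (u * (g * w * g⁻¹)) = 5 ^ k) ∧
      ¬ Group.IsSolvable ↥(Subgroup.closure ({u, g * w * g⁻¹} : Set (alternatingGroup Ω))) := by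
  refine transport (by norm_num) u w ℓ b (tr 5) (tr 5) hu hw (swap 3 4) (swap 1 2 * swap 3 4) ?_ good5a good5b
  rw [map_mul, Perm.sign_swap (show (1 : ZMod 5) ≠ 2 by decide), Perm.sign_swap (show (3 : ZMod 5) ≠ 4 by decide)]
  decide

end five

theorem inj4 {Ω : Type*} (a b c d : Ω) (h : [a, b, c, d].Nodup) :
    Function.Injective ![a, b, c, d] := by
  rw [← List.nodup_ofFn]
  simpa [List.ofFn_succ] using h

theorem inj5 {Ω : Type*} (a b c d e : Ω) (h : [a, b, c, d, e].Nodup) :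
    Function.Injective ![a, b, c, d, e] := by
  rw [← List.nodup_ofFn]
  simpa [List.ofFn_succ] using h

theorem inj6 {Ω : Type*} (a b c d e f : Ω) (h : [a, b, c, d, e, f].Nodup) :
    Function.Injective ![a, b, c, d, e, f] := by
  rw [← List.nodup_ofFn]
  simpa [List.ofFn_succ] using h

/-- Basic facts about a moved point of an element of order 3. -/
theorem mv3 {Ω : Type*} (π : Perm Ω) (h3 : π ^ 3 = 1) (x : Ω) (hx : π x ≠ x) :
    π (π x) ≠ π x ∧ π (π x) ≠ x ∧ π (π (π x)) = x := by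
  have h : π (π (π x)) = x := by
    have := congrArg (fun f : Perm Ω => f x) h3
    simpa [pow_succ] using this
  refine ⟨fun h1 => hx (π.injective h1), fun h1 => ?_, h⟩
  rw [h1] at h
  exact hx h

/-- Labelling types of elements of order 3. -/
theorem order3_types {Ω : Type*} [Fintype Ω] [DecidableEq Ω] (π : Perm Ω) (h3 : π ^ 3 = 1)
    (hne : π ≠ 1) (hcard : 5 ≤ Fintype.card Ω) :
    (∃ ℓ : Fin 6 ↪ Ω, ∀ y, π (ℓ y) = ℓ (d6 y)) ∨
      ((∃ ℓ : Fin 5 ↪ Ω, ∀ y, π (ℓ y) = ℓ (t5 y)) ∧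
        (6 ≤ Fintype.card Ω → ∃ ℓ : Fin 6 ↪ Ω, ∀ y, π (ℓ y) = ℓ (t6 y))) := by
  obtain ⟨c₀, hc₀⟩ : ∃ c, π c ≠ c := by
    by_contra hcon
    push Not at hcon
    exact hne (Equiv.ext hcon)
  obtain ⟨h12, h02, h3c⟩ := mv3 π h3 c₀ hc₀
  set c₁ := π c₀ with hc₁
  set c₂ := π c₁ with hc₂
  by_cases hd : ∃ d, π d ≠ d ∧ d ≠ c₀ ∧ d ≠ c₁ ∧ d ≠ c₂
  · left
    obtain ⟨d, hd0, hd1, hd2, hd3⟩ := hd
    obtain ⟨h12', h02', h3d⟩ := mv3 π h3 d hd0
    have e1 : π d ≠ c₀ := fun h => hd3 (π.injective (h.trans h3c.symm))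
    have e2 : π d ≠ c₁ := fun h => hd1 (π.injective h)
    have e3 : π d ≠ c₂ := fun h => hd2 (π.injective h)
    have f1 : π (π d) ≠ c₀ := fun h => e3 (π.injective (h.trans h3c.symm))
    have f2 : π (π d) ≠ c₁ := fun h => e1 (π.injective h)
    have f3 : π (π d) ≠ c₂ := fun h => e2 (π.injective h)
    let ℓ : Fin 6 ↪ Ω := ⟨![c₀, c₁, c₂, d, π d, π (π d)], inj6 _ _ _ _ _ _ (by
      simp only [List.nodup_cons, List.mem_cons, List.not_mem_nil, List.nodup_nil, or_false,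
        not_or, not_false_eq_true, and_true]
      exact ⟨⟨hc₀.symm, h02.symm, hd1.symm, e1.symm, f1.symm⟩, ⟨h12.symm, hd2.symm, e2.symm, f2.symm⟩,
        ⟨hd3.symm, e3.symm, f3.symm⟩, ⟨hd0.symm, h02'.symm⟩, h12'.symm⟩)⟩
    refine ⟨ℓ, ?_⟩
    intro y
    fin_cases y
    · show π c₀ = ℓ (d6 0); rw [show d6 0 = 1 by decide]; rfl
    · show π c₁ = ℓ (d6 1); rw [show d6 1 = 2 by decide]; rfl
    · show π c₂ = ℓ (d6 2); rw [show d6 2 = 0 by decide]; exact h3c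
    · show π d = ℓ (d6 3); rw [show d6 3 = 4 by decide]; rfl
    · show π (π d) = ℓ (d6 4); rw [show d6 4 = 5 by decide]; rfl
    · show π (π (π d)) = ℓ (d6 5); rw [show d6 5 = 3 by decide]; exact h3d
  · right
    push Not at hd
    have hfix : ∀ d, d ≠ c₀ → d ≠ c₁ → d ≠ c₂ → π d = d := by
      intro d h0 h1 h2
      by_contra hm
      exact h2 (hd d hm h0 h1)
    let C : Finset Ω := {c₀, c₁, c₂}
    have hC : C.card ≤ 3 := Finset.card_le_three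
    have hcompl : Fintype.card Ω - 3 ≤ (Cᶜ).card := by
      rw [Finset.card_compl]; omega
    have hmem : ∀ z ∈ Cᶜ, z ≠ c₀ ∧ z ≠ c₁ ∧ z ≠ c₂ := by
      intro z hz
      simp only [C, Finset.mem_compl, Finset.mem_insert, Finset.mem_singleton, not_or] at hz
      exact hz
    constructor
    · obtain ⟨s, hs, hs2⟩ := Finset.exists_subset_card_eq (show 2 ≤ (Cᶜ).card by omega)
      obtain ⟨d₀, d₁, hd01, rfl⟩ := Finset.card_eq_two.mp hs2
      obtain ⟨a0, a1, a2⟩ := hmem d₀ (hs (by simp))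
      obtain ⟨b0, b1, b2⟩ := hmem d₁ (hs (by simp))
      let ℓ : Fin 5 ↪ Ω := ⟨![c₀, c₁, c₂, d₀, d₁], inj5 _ _ _ _ _ (by
        simp only [List.nodup_cons, List.mem_cons, List.not_mem_nil, List.nodup_nil, or_false,
          not_or, not_false_eq_true, and_true]
        exact ⟨⟨hc₀.symm, h02.symm, a0.symm, b0.symm⟩, ⟨h12.symm, a1.symm, b1.symm⟩,
          ⟨a2.symm, b2.symm⟩, hd01⟩)⟩
      refine ⟨ℓ, ?_⟩
      intro y
      fin_cases y
      · show π c₀ = ℓ (t5 0); rw [show t5 0 = 1 by decide]; rfl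
      · show π c₁ = ℓ (t5 1); rw [show t5 1 = 2 by decide]; rfl
      · show π c₂ = ℓ (t5 2); rw [show t5 2 = 0 by decide]; exact h3c
      · show π d₀ = ℓ (t5 3); rw [show t5 3 = 3 by decide]; exact hfix _ a0 a1 a2
      · show π d₁ = ℓ (t5 4); rw [show t5 4 = 4 by decide]; exact hfix _ b0 b1 b2
    · intro hc6
      obtain ⟨s, hs, hs2⟩ := Finset.exists_subset_card_eq (show 3 ≤ (Cᶜ).card by omega)
      obtain ⟨d₀, d₁, d₂, hd01, hd02, hd12, rfl⟩ := Finset.card_eq_three.mp hs2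
      obtain ⟨a0, a1, a2⟩ := hmem d₀ (hs (by simp))
      obtain ⟨b0, b1, b2⟩ := hmem d₁ (hs (by simp))
      obtain ⟨e0, e1, e2⟩ := hmem d₂ (hs (by simp))
      let ℓ : Fin 6 ↪ Ω := ⟨![c₀, c₁, c₂, d₀, d₁, d₂], inj6 _ _ _ _ _ _ (by
        simp only [List.nodup_cons, List.mem_cons, List.not_mem_nil, List.nodup_nil, or_false,
          not_or, not_false_eq_true, and_true]
        exact ⟨⟨hc₀.symm, h02.symm, a0.symm, b0.symm, e0.symm⟩, ⟨h12.symm, a1.symm, b1.symm, e1.symm⟩,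
          ⟨a2.symm, b2.symm, e2.symm⟩, ⟨hd01, hd02⟩, hd12⟩)⟩
      refine ⟨ℓ, ?_⟩
      intro y
      fin_cases y
      · show π c₀ = ℓ (t6 0); rw [show t6 0 = 1 by decide]; rfl
      · show π c₁ = ℓ (t6 1); rw [show t6 1 = 2 by decide]; rfl
      · show π c₂ = ℓ (t6 2); rw [show t6 2 = 0 by decide]; exact h3c
      · show π d₀ = ℓ (t6 3); rw [show t6 3 = 3 by decide]; exact hfix _ a0 a1 a2
      · show π d₁ = ℓ (t6 4); rw [show t6 4 = 4 by decide]; exact hfix _ b0 b1 b2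
      · show π d₂ = ℓ (t6 5); rw [show t6 5 = 5 by decide]; exact hfix _ e0 e1 e2

/-- The case of elements of order 3. -/
theorem case_three {Ω : Type*} [Fintype Ω] [DecidableEq Ω] (u w : alternatingGroup Ω)
    (hu3 : (u : Perm Ω) ^ 3 = 1) (hw3 : (w : Perm Ω) ^ 3 = 1) (hu1 : (u : Perm Ω) ≠ 1)
    (hw1 : (w : Perm Ω) ≠ 1) (hcard : 5 ≤ Fintype.card Ω) :
    ∃ g : alternatingGroup Ω, (¬ ∃ k : ℕ, orderOf (u * (g * w * g⁻¹)) = 3 ^ k) ∧
      ¬ Group.IsSolvable ↥(Subgroup.closure ({u, g * w * g⁻¹} : Set (alternatingGroup Ω))) := by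
  have hcard6 : ∀ (ℓ : Fin 6 ↪ Ω), 6 ≤ Fintype.card Ω := fun ℓ => by
    simpa using Fintype.card_le_of_injective ℓ ℓ.injective
  rcases order3_types (u : Perm Ω) hu3 hu1 hcard with ⟨ℓ, hℓ⟩ | ⟨⟨ℓ, hℓ⟩, h6u⟩ <;>
    rcases order3_types (w : Perm Ω) hw3 hw1 hcard with ⟨b, hb⟩ | ⟨⟨b, hb⟩, h6w⟩
  · exact app_P2 u w ℓ b hℓ hb
  · obtain ⟨b', hb'⟩ := h6w (hcard6 ℓ)
    exact app_P3 u w ℓ b' hℓ hb'
  · obtain ⟨ℓ', hℓ'⟩ := h6u (hcard6 b)
    exact app_P4 u w ℓ' b hℓ' hb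
  · exact app_P1 u w ℓ b hℓ hb

end Cfsg.Agent.Lib.AltPFree
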