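import Mathlib
import Cfsg.Agent.Lib.AltPFree.Types

set_option autoImplicit false

namespace Cfsg.Agent.Lib.AltPFree

open Equiv

/-- Natural-number form of `good_break`. -/
theorem good_break' {p N P b' : ℕ} [Fact p.Prime] [NeZero N] (hp3 : 3 ≤ p) (hN : N = p ^ (b' + 2))
    (hP : P = p ^ (b' + 1)) (x : Perm (ZMod N)) (A B C D E : ℕ)
    (hAB : ((A : ℕ) : ZMod N) ≠ ((B : ℕ) : ZMod N))
    (h1 : x ((A + 1 : ℕ) : ZMod N) = ((B : ℕ) : ZMod N))
    (h2 : x ((B + 1 : ℕ) : ZMod N) = ((A : ℕ) : ZMod N))
    (h3 : x ((P + C : ℕ) : ZMod N) = ((D : ℕ) : ZMod N))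
    (h4 : x ((C : ℕ) : ZMod N) = ((E : ℕ) : ZMod N))
    (hDE : ((D : ℕ) : ZMod p) ≠ ((E : ℕ) : ZMod p)) : Good p x (tr N) := by
  have hdvd : p ∣ N := by rw [hN]; exact dvd_pow_self p (by omega)
  refine good_break hp3 hN (by omega) x A B hAB (by rw [← Nat.cast_succ]; exact h1)
    (by rw [← Nat.cast_succ]; exact h2) C hdvd ?_
  have e : b' + 2 - 1 = b' + 1 := rfl
  have e2 : ((C : ℕ) : ZMod N) + ((p ^ (b' + 2 - 1) : ℕ) : ZMod N) = ((P + C : ℕ) : ZMod N) := by
    rw [e, ← hP]; push_cast; ring
  rw [e2, h3, h4, map_natCast, map_natCast]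
  exact hDE

/-- Natural-number form of `good_prime`. -/
theorem good_prime' {p N : ℕ} [Fact p.Prime] [NeZero N] (hp3 : 3 ≤ p) (hN : N = p)
    (x : Perm (ZMod N)) (A B : ℕ) (hAB : ((A : ℕ) : ZMod N) ≠ ((B : ℕ) : ZMod N))
    (h1 : x ((A + 1 : ℕ) : ZMod N) = ((B : ℕ) : ZMod N))
    (h2 : x ((B + 1 : ℕ) : ZMod N) = ((A : ℕ) : ZMod N))
    (m : ℕ) (hxm : x ^ (p ^ m) = 1) : Good p x (tr N) :=
  good_prime hp3 hN x A B hAB (by rw [← Nat.cast_succ]; exact h1) (by rw [← Nat.cast_succ]; exact h2)
    m hxm

theorem natCast_inj_lt {N a c : ℕ} (ha : a < N) (hc : c < N)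
    (h : ((a : ℕ) : ZMod N) = ((c : ℕ) : ZMod N)) : a = c := by
  by_contra hac
  exact natCast_lt_ne ha hc hac h

/-- The ordered main theorem. -/
theorem main_ordered {Ω : Type*} [Fintype Ω] [DecidableEq Ω] {p : ℕ} (hpp : p.Prime) (hp3 : 3 ≤ p)
    (u w : alternatingGroup Ω) (a b : ℕ) (hu : orderOf (u : Perm Ω) = p ^ (a + 1))
    (hw : orderOf (w : Perm Ω) = p ^ (b + 1)) (hab : a ≤ b) (hcard : 5 ≤ Fintype.card Ω) :
    ∃ g : alternatingGroup Ω, (¬ ∃ k : ℕ, orderOf (u * (g * w * g⁻¹)) = p ^ k) ∧
      ¬ Group.IsSolvable ↥(Subgroup.closure ({u, g * w * g⁻¹} : Set (alternatingGroup Ω))) := by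
  classical
  haveI : Fact p.Prime := ⟨hpp⟩
  have hu1 : (u : Perm Ω) ^ (p ^ (a + 1)) = 1 := by rw [← hu]; exact pow_orderOf_eq_one _
  have hw1 : (w : Perm Ω) ^ (p ^ (b + 1)) = 1 := by rw [← hw]; exact pow_orderOf_eq_one _
  obtain ⟨c₀, per_u⟩ := exists_full_period (u : Perm Ω) hpp a hu
  obtain ⟨x₀, per_w⟩ := exists_full_period (w : Perm Ω) hpp b hw
  -- the small cases
  by_cases hb0 : b = 0
  · subst hb0
    have ha0 : a = 0 := by omega
    subst ha0
    by_cases hp3' : p = 3
    · subst hp3'
      refine case_three u w (by simpa using hu1) (by simpa using hw1) ?_ ?_ hcard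
      · intro h
        rw [h, orderOf_one] at hu
        norm_num at hu
      · intro h
        rw [h, orderOf_one] at hw
        norm_num at hw
    by_cases hp5 : p = 5
    · subst hp5
      have pu : Function.minimalPeriod (u : Perm Ω) c₀ = 5 := by simpa using per_u
      have pw : Function.minimalPeriod (w : Perm Ω) x₀ = 5 := by simpa using per_w
      refine app_P5 u w ⟨cycFun u c₀ 5, cycFun_injective _ _ _ pu⟩
        ⟨cycFun w x₀ 5, cycFun_injective _ _ _ pw⟩ ?_ ?_
      · intro y
        exact cycFun_succ _ _ _ (by norm_num) pu y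
      · intro y
        exact cycFun_succ _ _ _ (by norm_num) pw y
    · -- p ≥ 7
      have hp7 : 7 ≤ p := by
        by_contra hlt
        have hlt' : p < 7 := by omega
        interval_cases p <;> first | omega | (exact absurd hpp (by norm_num))
      haveI hNZ : NeZero (p ^ (0 + 1)) := ⟨(pow_pos hpp.pos _).ne'⟩
      set N := p ^ (0 + 1) with hN
      have hNp : N = p := by simp [hN]
      have h1N : 1 < N := by omega
      have hbinj := cycFun_injective (w : Perm Ω) x₀ N per_w
      have hbsucc := cycFun_succ (w : Perm Ω) x₀ N h1N per_w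
      have hcardN : N ≤ Fintype.card Ω := by
        have := Fintype.card_le_of_injective _ hbinj
        rwa [ZMod.card] at this
      obtain ⟨S, hScard, hSinv, hSc⟩ := exists_S (u : Perm Ω) hpp 0 hu1 c₀ per_u 0 le_rfl hcardN
      have hcinj := cycFun_injective (u : Perm Ω) c₀ N per_u
      have hcsucc := cycFun_succ (u : Perm Ω) c₀ N h1N per_u
      let cn : ℕ → Ω := fun n => cycFun (u : Perm Ω) c₀ N ((n : ℕ) : ZMod N)
      have hcn : ∀ n, (u : Perm Ω) (cn n) = cn (n + 1) := by
        intro n
        simp only [cn]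
        rw [hcsucc]
        push_cast
        rfl
      have hcnk : cn N = cn 0 := by
        simp [cn]
      have hcn' : (u : Perm Ω) (cn (N - 1)) = cn 0 := by
        rw [hcn, show N - 1 + 1 = N by omega, hcnk]
      let C' : Fin 4 → ℕ := ![0, 1, 2, N - 1]
      have hC'lt : ∀ j, C' j < N := by
        intro j; fin_cases j <;> simp [C'] <;> omega
      have hC'inj : Function.Injective C' := inj4 _ _ _ _ (by
        simp only [List.nodup_cons, List.mem_cons, List.not_mem_nil, or_false, not_or, List.nodup_nil,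
          not_false_eq_true, and_true]
        omega)
      let L' : Fin 4 → ℕ := ![0, 1, 2, 3]
      have hL'lt : ∀ j, L' j < N - 2 := by
        intro j; fin_cases j <;> simp [L'] <;> omega
      have hL'inj : Function.Injective L' := inj4 _ _ _ _ (by decide)
      refine caseA hpp u w ⟨_, hbinj⟩ hbsucc S hScard hSinv (fun j => cn (C' j))
        (fun i j h => hC'inj ?_) (fun j => hSc _) (fun j => ((L' j : ℕ) : ZMod N))
        (natCast_comp_injective L' hL'inj (fun j => by have := hL'lt j; omega))
        ((N - 1 : ℕ) : ZMod N) ((N - 2 : ℕ) : ZMod N)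
        (natCast_lt_ne (by omega) (by omega) (by omega))
        (fun j => natCast_lt_ne (by have := hL'lt j; omega) (by omega) (by have := hL'lt j; omega))
        (fun j => natCast_lt_ne (by have := hL'lt j; omega) (by omega) (by have := hL'lt j; omega))
        (0 + 1) hu1 ?_
      · exact natCast_inj_lt (hC'lt i) (hC'lt j) (hcinj h)
      · intro x hrel hxm
        have e01 : x ((1 : ℕ) : ZMod N) = ((2 : ℕ) : ZMod N) := hrel 1 2 (hcn 1)
        have e30 : x ((3 : ℕ) : ZMod N) = ((0 : ℕ) : ZMod N) := hrel 3 0 hcn'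
        exact good_prime' hp3 hNp x 0 2 (natCast_lt_ne (by omega) (by omega) (by omega)) e01 e30 _ hxm
  · obtain ⟨b', rfl⟩ : ∃ b', b = b' + 1 := ⟨b - 1, by omega⟩
    haveI hNZ : NeZero (p ^ (b' + 1 + 1)) := ⟨(pow_pos hpp.pos _).ne'⟩
    haveI hKZ : NeZero (p ^ (a + 1)) := ⟨(pow_pos hpp.pos _).ne'⟩
    set N := p ^ (b' + 1 + 1) with hN
    set P := p ^ (b' + 1) with hP
    have hNP : N = p * P := by rw [hN, hP, pow_succ' p (b' + 1)]
    have hP3 : 3 ≤ P := by
      have : p ≤ P := by rw [hP]; exact Nat.le_self_pow (by omega) p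
      omega
    have hN3 : 3 * P ≤ N := by rw [hNP]; exact Nat.mul_le_mul_right _ hp3
    have h1N : 1 < N := by omega
    have hbinj := cycFun_injective (w : Perm Ω) x₀ N per_w
    have hbsucc := cycFun_succ (w : Perm Ω) x₀ N h1N per_w
    have hcardN : N ≤ Fintype.card Ω := by
      have := Fintype.card_le_of_injective _ hbinj
      rwa [ZMod.card] at this
    obtain ⟨S, hScard, hSinv, hSc⟩ := exists_S (u : Perm Ω) hpp a hu1 c₀ per_u (b' + 1) hab hcardN
    set k := p ^ (a + 1) with hk
    have hk1 : 1 < k := Nat.one_lt_pow (by omega) hpp.one_lt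
    have hcinj := cycFun_injective (u : Perm Ω) c₀ k per_u
    have hcsucc := cycFun_succ (u : Perm Ω) c₀ k hk1 per_u
    let cn : ℕ → Ω := fun n => cycFun (u : Perm Ω) c₀ k ((n : ℕ) : ZMod k)
    have hcn : ∀ n, (u : Perm Ω) (cn n) = cn (n + 1) := by
      intro n
      simp only [cn]
      rw [hcsucc]
      push_cast
      rfl
    have hcnk : cn k = cn 0 := by
      simp [cn]
    have hcn' : (u : Perm Ω) (cn (k - 1)) = cn 0 := by
      rw [hcn, show k - 1 + 1 = k by omega, hcnk]
    have hcnS : ∀ n, cn n ∈ S := fun n => hSc _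
    have hpdvd : p ∣ P := by rw [hP]; exact dvd_pow_self p (by omega)
    have hNm1 : ((N - 1 : ℕ) : ZMod N) ≠ ((N - 2 : ℕ) : ZMod N) :=
      natCast_lt_ne (by omega) (by omega) (by omega)
    by_cases hk3 : k = 3
    · -- the orbit has length 3
      have hp3' : p = 3 := by
        have h1 : p ∣ k := by rw [hk]; exact dvd_pow_self p (by omega)
        rw [hk3] at h1
        exact (Nat.prime_dvd_prime_iff_eq hpp Nat.prime_three).mp h1
      have e20 : (u : Perm Ω) (cn 2) = cn 0 := by
        rw [hcn, show 2 + 1 = k by omega, hcnk]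
      have hcnne : ∀ i j, i < 3 → j < 3 → i ≠ j → cn i ≠ cn j := by
        intro i j hi hj hij h
        exact hij (natCast_inj_lt (N := k) (by omega) (by omega) (hcinj h))
      have h01 := hcnne 0 1 (by omega) (by omega) (by omega)
      have h02 := hcnne 0 2 (by omega) (by omega) (by omega)
      have h12 := hcnne 1 2 (by omega) (by omega) (by omega)
      have hscard : ({cn 0, cn 1, cn 2} : Finset Ω).card < S.card := by
        have : ({cn 0, cn 1, cn 2} : Finset Ω).card ≤ 3 := Finset.card_le_three
        omega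
      obtain ⟨z, hzS, hzC⟩ := Finset.exists_mem_notMem_of_card_lt_card hscard
      simp only [Finset.mem_insert, Finset.mem_singleton, not_or] at hzC
      obtain ⟨hz0, hz1, hz2⟩ := hzC
      by_cases hzf : (u : Perm Ω) z = z
      · -- `z` is fixed
        let c : Fin 4 → Ω := ![cn 0, z, cn 2, cn 1]
        have hc : Function.Injective c := inj4 _ _ _ _ (by
          simp only [List.nodup_cons, List.mem_cons, List.not_mem_nil, or_false, not_or, List.nodup_nil,
            not_false_eq_true, and_true]
          exact ⟨⟨Ne.symm hz0, h02, h01⟩, ⟨hz2, hz1⟩, h12.symm⟩)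
        have hcS : ∀ j, c j ∈ S := by
          intro j
          fin_cases j
          · exact hcnS 0
          · exact hzS
          · exact hcnS 2
          · exact hcnS 1
        let L' : Fin 4 → ℕ := ![0, 1, 2, P + 2]
        have hL'lt : ∀ j, L' j < N - 2 := by
          intro j; fin_cases j <;> simp [L'] <;> omega
        have hL'inj : Function.Injective L' := inj4 _ _ _ _ (by
          simp only [List.nodup_cons, List.mem_cons, List.not_mem_nil, or_false, not_or, List.nodup_nil,
            not_false_eq_true, and_true]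
          omega)
        refine caseA hpp u w ⟨_, hbinj⟩ hbsucc S hScard hSinv c hc hcS (fun j => ((L' j : ℕ) : ZMod N))
          (natCast_comp_injective L' hL'inj (fun j => by have := hL'lt j; omega))
          ((N - 1 : ℕ) : ZMod N) ((N - 2 : ℕ) : ZMod N) hNm1
          (fun j => natCast_lt_ne (by have := hL'lt j; omega) (by omega) (by have := hL'lt j; omega))
          (fun j => natCast_lt_ne (by have := hL'lt j; omega) (by omega) (by have := hL'lt j; omega))
          (a + 1) hu1 ?_
        intro x hrel hxm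
        have e1 : x ((1 : ℕ) : ZMod N) = ((1 : ℕ) : ZMod N) := hrel 1 1 hzf
        have e2 : x ((2 : ℕ) : ZMod N) = ((0 : ℕ) : ZMod N) := hrel 2 0 e20
        have e3 : x ((P + 2 : ℕ) : ZMod N) = ((2 : ℕ) : ZMod N) := hrel 3 2 (hcn 1)
        exact good_break' hp3 hN hP x 0 1 2 2 0 (natCast_lt_ne (by omega) (by omega) (by omega)) e1 e2 e3 e2
          (natCast_lt_ne (by omega) (by omega) (by omega))
      · -- `z` is moved
        have hz'0 : (u : Perm Ω) z ≠ cn 0 := fun h => hz2 ((u : Perm Ω).injective (h.trans e20.symm))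
        have hz'1 : (u : Perm Ω) z ≠ cn 1 := fun h => hz0 ((u : Perm Ω).injective (h.trans (hcn 0).symm))
        have hz'2 : (u : Perm Ω) z ≠ cn 2 := fun h => hz1 ((u : Perm Ω).injective (h.trans (hcn 1).symm))
        let c : Fin 5 → Ω := ![cn 0, z, (u : Perm Ω) z, cn 2, cn 1]
        have hc : Function.Injective c := inj5 _ _ _ _ _ (by
          simp only [List.nodup_cons, List.mem_cons, List.not_mem_nil, or_false, not_or, List.nodup_nil,
            not_false_eq_true, and_true]
          exact ⟨⟨Ne.symm hz0, hz'0.symm, h02, h01⟩, ⟨fun h => hzf h.symm, hz2, hz1⟩, ⟨hz'2, hz'1⟩, h12.symm⟩)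
        have hcS : ∀ j, c j ∈ S := by
          intro j
          fin_cases j
          · exact hcnS 0
          · exact hzS
          · exact hSinv _ hzS
          · exact hcnS 2
          · exact hcnS 1
        obtain ⟨Pm, hPm⟩ : ∃ Pm, P = Pm + 1 := ⟨P - 1, by omega⟩
        let L' : Fin 5 → ℕ := ![0, 1, Pm, Pm + 1, Pm + 2]
        have hL'lt : ∀ j, L' j < N - 2 := by
          intro j; fin_cases j <;> simp [L'] <;> omega
        have hL'inj : Function.Injective L' := inj5 _ _ _ _ _ (by
          simp only [List.nodup_cons, List.mem_cons, List.not_mem_nil, or_false, not_or, List.nodup_nil,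
            not_false_eq_true, and_true]
          omega)
        refine caseA hpp u w ⟨_, hbinj⟩ hbsucc S hScard hSinv c hc hcS (fun j => ((L' j : ℕ) : ZMod N))
          (natCast_comp_injective L' hL'inj (fun j => by have := hL'lt j; omega))
          ((N - 1 : ℕ) : ZMod N) ((N - 2 : ℕ) : ZMod N) hNm1
          (fun j => natCast_lt_ne (by have := hL'lt j; omega) (by omega) (by have := hL'lt j; omega))
          (fun j => natCast_lt_ne (by have := hL'lt j; omega) (by omega) (by have := hL'lt j; omega))
          (a + 1) hu1 ?_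
        intro x hrel hxm
        have e1 : x ((1 : ℕ) : ZMod N) = ((Pm : ℕ) : ZMod N) := hrel 1 2 rfl
        have e2 : x ((Pm + 1 : ℕ) : ZMod N) = ((0 : ℕ) : ZMod N) := hrel 3 0 e20
        have e3 : x ((0 : ℕ) : ZMod N) = ((Pm + 2 : ℕ) : ZMod N) := hrel 0 4 (hcn 0)
        refine good_break' hp3 hN hP x 0 Pm 0 0 (Pm + 2) (natCast_lt_ne (by omega) (by omega) (by omega)) e1 e2
          (by rw [hPm]; exact e2) e3 ?_
        have h4 : ((Pm + 2 : ℕ) : ZMod p) = 1 := by
          have h5 : ((P : ℕ) : ZMod p) = 0 := (ZMod.natCast_eq_zero_iff _ _).mpr hpdvd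
          rw [hPm] at h5
          push_cast at h5 ⊢
          linear_combination h5
        rw [h4]
        simp
    · -- the orbit has length at least 5
      have hk5 : 5 ≤ k := by
        by_contra hlt
        have hpk : p ≤ k := by rw [hk]; exact Nat.le_self_pow (by omega) p
        have hp4 : p ≠ 4 := by rintro rfl; norm_num at hpp
        have hp3' : p = 3 := by omega
        subst hp3'
        have ha : a = 0 := by
          by_contra ha0
          have : 3 ^ 2 ≤ 3 ^ (a + 1) := Nat.pow_le_pow_right (by norm_num) (by omega)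
          have h9 : 3 ^ (a + 1) = k := hk.symm
          omega
        subst ha
        exact hk3 (by rw [hk]; norm_num)
      let C' : Fin 5 → ℕ := ![0, 1, 3, 2, k - 1]
      have hC'lt : ∀ j, C' j < k := by
        intro j; fin_cases j <;> simp [C'] <;> omega
      have hC'inj : Function.Injective C' := inj5 _ _ _ _ _ (by
        simp only [List.nodup_cons, List.mem_cons, List.not_mem_nil, or_false, not_or, List.nodup_nil,
          not_false_eq_true, and_true]
        omega)
      let L' : Fin 5 → ℕ := ![0, 1, 2, P, P + 1]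
      have hL'lt : ∀ j, L' j < N - 2 := by
        intro j; fin_cases j <;> simp [L'] <;> omega
      have hL'inj : Function.Injective L' := inj5 _ _ _ _ _ (by
        simp only [List.nodup_cons, List.mem_cons, List.not_mem_nil, or_false, not_or, List.nodup_nil,
          not_false_eq_true, and_true]
        omega)
      refine caseA hpp u w ⟨_, hbinj⟩ hbsucc S hScard hSinv (fun j => cn (C' j))
        (fun i j h => hC'inj (natCast_inj_lt (hC'lt i) (hC'lt j) (hcinj h))) (fun j => hSc _)
        (fun j => ((L' j : ℕ) : ZMod N))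
        (natCast_comp_injective L' hL'inj (fun j => by have := hL'lt j; omega))
        ((N - 1 : ℕ) : ZMod N) ((N - 2 : ℕ) : ZMod N) hNm1
        (fun j => natCast_lt_ne (by have := hL'lt j; omega) (by omega) (by have := hL'lt j; omega))
        (fun j => natCast_lt_ne (by have := hL'lt j; omega) (by omega) (by have := hL'lt j; omega))
        (a + 1) hu1 ?_
      intro x hrel hxm
      have e0 : x ((0 : ℕ) : ZMod N) = ((1 : ℕ) : ZMod N) := hrel 0 1 (hcn 0)
      have e1 : x ((1 : ℕ) : ZMod N) = ((P : ℕ) : ZMod N) := hrel 1 3 (hcn 1)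
      have e2 : x ((P : ℕ) : ZMod N) = ((2 : ℕ) : ZMod N) := hrel 3 2 (hcn 2)
      have e3 : x ((P + 1 : ℕ) : ZMod N) = ((0 : ℕ) : ZMod N) := hrel 4 0 hcn'
      exact good_break' hp3 hN hP x 0 P 0 2 1 (natCast_lt_ne (by omega) (by omega) (by omega)) e1 e3 e2 e0
        (natCast_lt_ne (by omega) (by omega) (by omega))

end Cfsg.Agent.Lib.AltPFree
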